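import Mathlib

/-!
# Counting conjugacy classes
-/

set_option autoImplicit false

namespace Cfsg.Agent.H674.KM

variable {G : Type*} [Group G] [Finite G]

/-- the number of conjugacy classes of `G` meeting the subgroup `N` -/
noncomputable def ncl (N : Subgroup G) : ℕ :=
  Nat.card {c : ConjClasses G // ∃ x ∈ N, ConjClasses.mk x = c}

theorem finite_classes : Finite (ConjClasses G) := Quotient.finite _

theorem ncl_le (N : Subgroup G) : ncl N ≤ Nat.card (ConjClasses G) := by
  have : Finite (ConjClasses G) := finite_classes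
  exact Nat.card_le_card_of_injective _ Subtype.val_injective

theorem classes_pos : 0 < Nat.card (ConjClasses G) := by
  have : Finite (ConjClasses G) := finite_classes
  have : Nonempty (ConjClasses G) := ⟨ConjClasses.mk 1⟩
  exact Nat.card_pos

/-- classes inside `N` and classes outside the kernel of `f` -/
theorem ncl_add_le {Q : Type*} [Group Q] (f : G →* Q) (hf : Function.Surjective f)
    (N : Subgroup G) (hN : N ≤ f.ker) :
    ncl N + Nat.card (ConjClasses Q) ≤ Nat.card (ConjClasses G) + 1 := by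
  classical
  have h0 : Finite (ConjClasses G) := finite_classes
  have hfQ : Finite Q := Finite.of_surjective f hf
  have h1 : Finite (ConjClasses Q) := finite_classes
  have hsurj : ∀ c : ConjClasses Q, ∃ d : ConjClasses G, ConjClasses.map f d = c := by
    intro c
    obtain ⟨q, rfl⟩ := ConjClasses.mk_surjective c
    obtain ⟨g, rfl⟩ := hf q
    exact ⟨ConjClasses.mk g, rfl⟩
  choose s hs using hsurj
  let A : Set (ConjClasses G) := {c | ∃ x ∈ N, ConjClasses.mk x = c}
  let B : Set (ConjClasses G) := s '' {c | c ≠ ConjClasses.mk 1}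
  have hsinj : Function.Injective s := by
    intro a b hab
    rw [← hs a, ← hs b, hab]
  have hdisj : Disjoint A B := by
    rw [Set.disjoint_left]
    rintro _ ⟨x, hx, rfl⟩ ⟨c, hc, hcx⟩
    apply hc
    rw [← hs c, hcx]
    show ConjClasses.mk (f x) = ConjClasses.mk 1
    rw [MonoidHom.mem_ker.1 (hN hx)]
  have hA : A.ncard = ncl N := by
    rw [← Nat.card_coe_set_eq]
    rfl
  have hB : B.ncard + 1 = Nat.card (ConjClasses Q) := by
    rw [Set.ncard_image_of_injective _ hsinj]
    have h2 : {c : ConjClasses Q | c ≠ ConjClasses.mk 1} = {ConjClasses.mk 1}ᶜ := rfl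
    rw [h2, Set.ncard_compl, Set.ncard_singleton]
    have h3 : 0 < Nat.card (ConjClasses Q) := by
      have : Nonempty (ConjClasses Q) := ⟨ConjClasses.mk 1⟩
      exact Nat.card_pos
    omega
  have hu : (A ∪ B).ncard ≤ Nat.card (ConjClasses G) := by
    rw [← Set.ncard_univ]
    exact Set.ncard_le_ncard (Set.subset_univ _) (Set.toFinite _)
  rw [Set.ncard_union_eq hdisj (Set.toFinite _) (Set.toFinite _)] at hu
  omega

theorem classes_le_of_surj {Q : Type*} [Group Q] (f : G →* Q) (hf : Function.Surjective f) :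
    Nat.card (ConjClasses Q) ≤ Nat.card (ConjClasses G) := by
  have := ncl_add_le f hf ⊥ bot_le
  have h1 : 0 < ncl (⊥ : Subgroup G) := by
    have h0 : Finite (ConjClasses G) := finite_classes
    have : Nonempty {c : ConjClasses G // ∃ x ∈ (⊥ : Subgroup G), ConjClasses.mk x = c} :=
      ⟨⟨ConjClasses.mk 1, 1, Subgroup.one_mem _, rfl⟩⟩
    exact Nat.card_pos
  omega

/-- the number of classes meeting `N` is at least `|N| / |G : M|` if `M` centralises `N` -/
theorem card_le_ncl_mul (N M : Subgroup G) (hNM : ∀ a ∈ N, ∀ b ∈ M, a * b = b * a) :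
    Nat.card N ≤ ncl N * M.index := by
  classical
  have h0 : Finite (ConjClasses G) := finite_classes
  let X := {c : ConjClasses G // ∃ x ∈ N, ConjClasses.mk x = c}
  have hfin : Finite X := inferInstance
  have hX : ∀ c : X, ∃ x ∈ N, ConjClasses.mk x = c.1 := fun c => c.2
  choose r hrN hr using hX
  -- `N` injects in `X × G ⧸ M`
  have hfib : ∀ y : N, ∃ g : G, (y : G) = g * r ⟨ConjClasses.mk (y : G), y, y.2, rfl⟩ * g⁻¹ := by
    intro y
    have h1 := hr ⟨ConjClasses.mk (y : G), y, y.2, rfl⟩
    rw [ConjClasses.mk_eq_mk_iff_isConj, isConj_iff] at h1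
    obtain ⟨g, hg⟩ := h1
    exact ⟨g, hg.symm⟩
  choose g hg using hfib
  let Φ : N → X × (G ⧸ M) := fun y =>
    (⟨ConjClasses.mk (y : G), y, y.2, rfl⟩, QuotientGroup.mk (g y))
  have hΦ : Function.Injective Φ := by
    intro y y' h
    have h1 : (⟨ConjClasses.mk (y : G), y, y.2, rfl⟩ : X) =
      ⟨ConjClasses.mk (y' : G), y', y'.2, rfl⟩ := congrArg Prod.fst h
    have h2 : (QuotientGroup.mk (g y) : G ⧸ M) = QuotientGroup.mk (g y') := congrArg Prod.snd h
    rw [QuotientGroup.eq] at h2
    apply Subtype.ext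
    rw [hg y, hg y', h1]
    set x := r ⟨ConjClasses.mk (y' : G), y', y'.2, rfl⟩ with hx
    have hxN : x ∈ N := hrN _
    have h3 := hNM x hxN _ h2
    have h4 : g y' = g y * ((g y)⁻¹ * g y') := by group
    rw [h4]
    calc g y * x * (g y)⁻¹ = g y * (x * ((g y)⁻¹ * g y')) * ((g y)⁻¹ * g y')⁻¹ * (g y)⁻¹ := by group
      _ = g y * (((g y)⁻¹ * g y') * x) * ((g y)⁻¹ * g y')⁻¹ * (g y)⁻¹ := by rw [h3]
      _ = _ := by group
  have h1 := Nat.card_le_card_of_injective Φ hΦ
  rw [Nat.card_prod] at h1
  exact h1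

/-- an invariant with `k + 1` values -/
theorem ncl_ge_of_invariant (N : Subgroup G) (w : N → ℕ)
    (hw : ∀ (x y : N), IsConj (x : G) (y : G) → w x = w y) (k : ℕ)
    (hk : ∀ i ≤ k, ∃ x, w x = i) : k + 1 ≤ ncl N := by
  classical
  have h0 : Finite (ConjClasses G) := finite_classes
  have hk' : ∀ i : Fin (k + 1), ∃ x, w x = i := fun i => hk i (by omega)
  choose x hx using hk'
  have hinj : Function.Injective (fun i : Fin (k + 1) =>
      (⟨ConjClasses.mk (x i : G), x i, (x i).2, rfl⟩ :
        {c : ConjClasses G // ∃ x ∈ N, ConjClasses.mk x = c})) := by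
    intro i i' h
    have h1 : ConjClasses.mk (x i : G) = ConjClasses.mk (x i' : G) := congrArg Subtype.val h
    rw [ConjClasses.mk_eq_mk_iff_isConj] at h1
    have h2 := hw _ _ h1
    rw [hx, hx] at h2
    exact Fin.ext h2
  have := Nat.card_le_card_of_injective _ hinj
  rwa [Nat.card_fin] at this

/-- a nontrivial normal subgroup meets at least two classes -/
theorem two_le_ncl (N : Subgroup G) (hN : N ≠ ⊥) : 2 ≤ ncl N := by
  classical
  obtain ⟨x, hx1⟩ := Subgroup.ne_bot_iff_exists_ne_one.1 hN
  apply ncl_ge_of_invariant N (fun a => if (a : G) = 1 then 0 else 1) _ 1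
  · intro i hi
    interval_cases i
    · exact ⟨1, by simp⟩
    · exact ⟨x, by simpa using fun h => hx1 (Subtype.ext h)⟩
  · intro a b hab
    have h1 : (a : G) = 1 ↔ (b : G) = 1 := by
      constructor
      · intro h
        rw [h] at hab
        exact (isConj_one_right.1 hab)
      · intro h
        rw [h] at hab
        exact isConj_one_left.1 hab
    simp only [h1]

theorem four_aux (n a b : ℕ) (h : n = 1 + a + b) (ha : a ∣ n) (hb : b ∣ n) (ha0 : 0 < a) (hb0 : 0 < b) :
    n ≤ 6 := by
  obtain ⟨s, hs⟩ := ha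
  obtain ⟨t, ht⟩ := hb
  have hs2 : 2 ≤ s := by
    by_contra hcon
    have : s = 0 ∨ s = 1 := by omega
    rcases this with rfl | rfl
    · omega
    · omega
  have ht2 : 2 ≤ t := by
    by_contra hcon
    have : t = 0 ∨ t = 1 := by omega
    rcases this with rfl | rfl
    · omega
    · omega
  have key : ∀ a b t : ℕ, 0 < b → n = 1 + a + b → n = a * 2 → n = b * t → n ≤ 6 := by
    intro a b t hb h h2 h3
    have h4 : a = b + 1 := by omega
    have h5 : b ∣ 2 := by
      have h6 : b ∣ n := ⟨t, h3⟩
      have h7 : n = b * 2 + 2 := by omega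
      rw [h7] at h6
      exact (Nat.dvd_add_right (Dvd.intro 2 rfl)).1 h6
    have := Nat.le_of_dvd (by norm_num) h5
    omega
  rcases Nat.eq_or_lt_of_le hs2 with h2 | h2
  · subst h2
    exact key a b t hb0 h hs ht
  rcases Nat.eq_or_lt_of_le ht2 with h3 | h3
  · subst h3
    exact key b a s ha0 (by omega) ht hs
  · have h4 : a * 3 ≤ n := by rw [hs]; exact Nat.mul_le_mul_left _ h2
    have h5 : b * 3 ≤ n := by rw [ht]; exact Nat.mul_le_mul_left _ h3
    omega

theorem ncard_carrier_dvd (c : ConjClasses G) : c.carrier.ncard ∣ Nat.card G := by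
  obtain ⟨g, rfl⟩ := ConjClasses.mk_surjective c
  rw [← ConjAct.orbit_eq_carrier_conjClasses, ← MulAction.index_stabilizer]
  exact Subgroup.index_dvd_card _

theorem ncard_carrier_pos (c : ConjClasses G) : 0 < c.carrier.ncard := by
  obtain ⟨g, rfl⟩ := ConjClasses.mk_surjective c
  rw [Set.ncard_pos (Set.toFinite _)]
  exact ⟨g, ConjClasses.mem_carrier_mk⟩

/-- a group of order `> 6` has at least four classes -/
theorem four_le_classes (h : 6 < Nat.card G) : 4 ≤ Nat.card (ConjClasses G) := by
  classical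
  by_contra hcon
  have h0 : Finite (ConjClasses G) := finite_classes
  have : Fintype (ConjClasses G) := Fintype.ofFinite _
  have hsum := Group.sum_card_conj_classes_eq_card (G := G)
  rw [finsum_eq_sum_of_fintype] at hsum
  set c1 : ConjClasses G := ConjClasses.mk 1 with hc1
  have h1 : c1.carrier.ncard = 1 := by
    rw [Set.ncard_eq_one]
    refine ⟨1, ?_⟩
    ext x
    rw [hc1, ConjClasses.mem_carrier_iff_mk_eq, ConjClasses.mk_eq_mk_iff_isConj,
      Set.mem_singleton_iff, isConj_one_left]
  rw [← Finset.add_sum_erase _ _ (Finset.mem_univ c1), h1] at hsum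
  set S := Finset.univ.erase c1 with hS
  have hScard : S.card ≤ 2 := by
    rw [hS, Finset.card_erase_of_mem (Finset.mem_univ _), Finset.card_univ,
      ← Nat.card_eq_fintype_card]
    omega
  have h2 : S.card = 0 ∨ S.card = 1 ∨ S.card = 2 := by omega
  rcases h2 with h3 | h3 | h3
  · rw [Finset.card_eq_zero] at h3
    rw [h3, Finset.sum_empty] at hsum
    omega
  · rw [Finset.card_eq_one] at h3
    obtain ⟨x, hx⟩ := h3
    rw [hx, Finset.sum_singleton] at hsum
    have h4 := ncard_carrier_dvd x
    have h5 := ncard_carrier_pos x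
    rw [← hsum] at h4
    have h6 : x.carrier.ncard ∣ 1 := (Nat.dvd_add_left (dvd_refl _)).1 h4
    have h7 := Nat.le_of_dvd one_pos h6
    omega
  · rw [Finset.card_eq_two] at h3
    obtain ⟨x, y, hxy, hx⟩ := h3
    rw [hx, Finset.sum_pair hxy] at hsum
    have h4 := four_aux (Nat.card G) _ _ (by rw [← hsum]; ring) (ncard_carrier_dvd x)
      (ncard_carrier_dvd y) (ncard_carrier_pos x) (ncard_carrier_pos y)
    omega

end Cfsg.Agent.H674.KM
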