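import Cfsg.Agent.H674.KM.Block
import Cfsg.Agent.H718.ConjRep
import Cfsg.Agent.Lib.Cores

/-!
# Minimal normal subgroups of solvable groups as modules; reduction to a chief factor
-/

set_option autoImplicit false

namespace Cfsg.Agent.H674.KM

open Module

universe u

/-- a minimal normal subgroup of a solvable group is elementary abelian -/
theorem exists_prime_of_minimal {G : Type*} [Group G] [Finite G] {V : Subgroup G}
    (hVn : V.Normal) (hne : V ≠ ⊥) (hsol : Group.IsSolvable G)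
    (hmin : ∀ N : Subgroup G, N.Normal → N ≤ V → N = ⊥ ∨ N = V) :
    ∃ p : ℕ, p.Prime ∧ (∀ a ∈ V, ∀ b ∈ V, a * b = b * a) ∧ ∀ a ∈ V, a ^ p = 1 := by
  have hnt : Nontrivial V := (Subgroup.nontrivial_iff_ne_bot V).mpr hne
  have hcomm : ⁅V, V⁆ = ⊥ := by
    rcases hmin ⁅V, V⁆ inferInstance (Subgroup.commutator_le_left V V) with h | h
    · exact h
    · exfalso
      have h1 := Group.IsSolvable.commutator_lt_top_of_nontrivial V
      have h2 : (commutator V).map V.subtype = ⁅V, V⁆ := by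
        rw [commutator_def, Subgroup.map_commutator, ← MonoidHom.range_eq_map,
          Subgroup.range_subtype]
      rw [h] at h2
      apply h1.ne
      apply Subgroup.map_injective V.subtype_injective
      rw [h2, ← MonoidHom.range_eq_map, Subgroup.range_subtype]
  have hab : ∀ a ∈ V, ∀ b ∈ V, a * b = b * a := by
    intro a ha b hb
    have : a * b * a⁻¹ * b⁻¹ ∈ (⊥ : Subgroup G) :=
      hcomm ▸ Subgroup.commutator_mem_commutator ha hb
    rw [Subgroup.mem_bot] at this
    have h1 : a * b = (a * b * a⁻¹ * b⁻¹) * (b * a) := by group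
    rw [h1, this, one_mul]
  obtain ⟨p, hp, hpd⟩ := Nat.exists_prime_and_dvd (n := Nat.card V)
    (by rw [Ne, Subgroup.card_eq_one]; exact hne)
  have : Fact p.Prime := ⟨hp⟩
  let N : Subgroup G :=
    { carrier := {v | v ∈ V ∧ v ^ p = 1}
      one_mem' := ⟨V.one_mem, one_pow _⟩
      mul_mem' := by
        rintro a b ⟨ha, ha'⟩ ⟨hb, hb'⟩
        refine ⟨V.mul_mem ha hb, ?_⟩
        have hcom : Commute a b := hab a ha b hb
        rw [hcom.mul_pow, ha', hb', one_mul]
      inv_mem' := by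
        rintro a ⟨ha, ha'⟩
        refine ⟨V.inv_mem ha, ?_⟩
        rw [inv_pow, ha', inv_one] }
  have hNn : N.Normal := by
    refine ⟨?_⟩
    rintro a ⟨ha, ha'⟩ g
    refine ⟨hVn.conj_mem a ha g, ?_⟩
    rw [conj_pow, ha', mul_one, mul_inv_cancel]
  have hNV : N ≤ V := fun a ha => ha.1
  have hN1 : N ≠ ⊥ := by
    intro h
    obtain ⟨x, hx⟩ := exists_prime_orderOf_dvd_card' p hpd
    have h1 : (x : G) ∈ N := ⟨x.2, by
      have := pow_orderOf_eq_one x
      rw [hx] at this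
      exact_mod_cast congrArg Subtype.val this⟩
    rw [h, Subgroup.mem_bot] at h1
    have h2 : x = 1 := Subtype.ext h1
    rw [h2, orderOf_one] at hx
    exact hp.one_lt.ne hx
  rcases hmin N hNn hNV with h | h
  · exact absurd h hN1
  · exact ⟨p, hp, hab, fun a ha => (h.symm ▸ ha : a ∈ N).2⟩

/-- a non-trivial normal subgroup contains a minimal one -/
theorem exists_minimal {G : Type*} [Group G] [Finite G] (K : Subgroup G) (hKn : K.Normal)
    (hK : K ≠ ⊥) : ∃ V : Subgroup G, V.Normal ∧ V ≠ ⊥ ∧ V ≤ K ∧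
      ∀ N : Subgroup G, N.Normal → N ≤ V → N = ⊥ ∨ N = V := by
  obtain ⟨V, hV⟩ := (Set.toFinite {V : Subgroup G | V.Normal ∧ V ≠ ⊥ ∧ V ≤ K}).exists_minimal
    ⟨K, hKn, hK, le_rfl⟩
  obtain ⟨h1, h2, h3⟩ : V.Normal ∧ V ≠ ⊥ ∧ V ≤ K := hV.prop
  refine ⟨V, h1, h2, h3, fun N hN hNV => ?_⟩
  by_cases h : N = ⊥
  · exact Or.inl h
  · right
    exact le_antisymm hNV (hV.2 (⟨hN, h, le_trans hNV h3⟩ : N.Normal ∧ N ≠ ⊥ ∧ N ≤ K) hNV)

/-- the faithful irreducible module -/
theorem exists_act {G : Type u} [Group G] [Finite G] (r : ℕ) (V : Subgroup G) [hVn : V.Normal]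
    (hab : ∀ a ∈ V, ∀ b ∈ V, a * b = b * a) (hexp : ∀ a ∈ V, a ^ r = 1) (hne : V ≠ ⊥)
    (hmin : ∀ N : Subgroup G, N.Normal → N ≤ V → N = ⊥ ∨ N = V) :
    ∃ (E : Type u) (_ : AddCommGroup E) (_ : Module (ZMod r) E) (_ : Finite E)
      (_ : Nontrivial E) (e : E ≃ V)
      (ρ : (G ⧸ Subgroup.centralizer (V : Set G)) →* (E →ₗ[ZMod r] E)),
      Function.Injective ρ ∧
      (∀ W : Submodule (ZMod r) E, (∀ h, ∀ w ∈ W, ρ h w ∈ W) → W = ⊥ ∨ W = ⊤) ∧
      (∀ a b, (e (a + b) : G) = e a * e b) ∧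
      ∀ (g : G) (s : E), ((e (ρ (QuotientGroup.mk g) s) : V) : G) = g * e s * g⁻¹ := by
  obtain ⟨E, _, _, _, e, ρ0, hadd, hρ0⟩ := H718.exists_conjRep r (⊤ : Subgroup G) V hab hexp
    (fun h _ u hu => hVn.conj_mem u hu h)
  let ρ1 : G →* (E →ₗ[ZMod r] E) := ρ0.comp (Subgroup.topEquiv (G := G)).symm.toMonoidHom
  have hρ1 : ∀ (g : G) (s : E), ((e (ρ1 g s) : V) : G) = g * e s * g⁻¹ := fun g s => hρ0 _ s
  have hker : Subgroup.centralizer (V : Set G) ≤ ρ1.ker := by
    intro c hc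
    rw [MonoidHom.mem_ker]
    apply LinearMap.ext
    intro s
    apply e.injective
    apply Subtype.ext
    rw [hρ1]
    have h1 := Subgroup.mem_centralizer_iff.1 hc (e s : G) (e s).2
    show c * (e s : G) * c⁻¹ = e s
    rw [← h1, mul_assoc, mul_inv_cancel, mul_one]
  have hnt : Nontrivial E := by
    have : Nontrivial V := (Subgroup.nontrivial_iff_ne_bot V).mpr hne
    exact e.nontrivial
  let ρ : (G ⧸ Subgroup.centralizer (V : Set G)) →* (E →ₗ[ZMod r] E) :=
    QuotientGroup.lift _ ρ1 hker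
  have hρ : ∀ (g : G) (s : E), ((e (ρ (QuotientGroup.mk g) s) : V) : G) = g * e s * g⁻¹ := hρ1
  have hadd' : ∀ a b, (e (a + b) : G) = e a * e b := fun a b => congrArg Subtype.val (hadd a b)
  have hzero : (e 0 : G) = 1 := by
    have h1 := hadd' 0 0
    rw [add_zero] at h1
    exact mul_left_cancel (h1.symm.trans (mul_one _).symm)
  refine ⟨E, inferInstance, inferInstance, inferInstance, hnt, e, ρ, ?_, ?_, hadd', hρ⟩
  · intro a b hab'
    obtain ⟨a, rfl⟩ := QuotientGroup.mk_surjective a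
    obtain ⟨b, rfl⟩ := QuotientGroup.mk_surjective b
    rw [QuotientGroup.eq, Subgroup.mem_centralizer_iff]
    intro v hv
    have h1 := hρ a (e.symm ⟨v, hv⟩)
    rw [hab', hρ b, Equiv.apply_symm_apply] at h1
    have h2 : v = a⁻¹ * (a * v * a⁻¹) * a := by group
    calc v * (a⁻¹ * b) = (a⁻¹ * (a * v * a⁻¹) * a) * (a⁻¹ * b) := by rw [← h2]
      _ = (a⁻¹ * (b * v * b⁻¹) * a) * (a⁻¹ * b) := by rw [← h1]
      _ = a⁻¹ * b * v := by group
  · intro W hW
    let M : Subgroup G :=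
      { carrier := {x | ∃ w ∈ W, (e w : G) = x}
        one_mem' := ⟨0, W.zero_mem, hzero⟩
        mul_mem' := by
          rintro _ _ ⟨a, ha, rfl⟩ ⟨b, hb, rfl⟩
          exact ⟨a + b, W.add_mem ha hb, hadd' a b⟩
        inv_mem' := by
          rintro _ ⟨a, ha, rfl⟩
          refine ⟨-a, W.neg_mem ha, ?_⟩
          have h1 := hadd' (-a) a
          rw [neg_add_cancel, hzero] at h1
          exact eq_inv_of_mul_eq_one_left h1.symm }
    have hMn : M.Normal := by
      refine ⟨?_⟩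
      rintro _ ⟨w, hw, rfl⟩ g
      exact ⟨ρ (QuotientGroup.mk g) w, hW _ w hw, hρ g w⟩
    have hMV : M ≤ V := by
      rintro _ ⟨w, _, rfl⟩
      exact (e w).2
    rcases hmin M hMn hMV with h | h
    · left
      rw [eq_bot_iff]
      intro w hw
      have h1 : (e w : G) ∈ M := ⟨w, hw, rfl⟩
      rw [h, Subgroup.mem_bot, ← hzero] at h1
      rw [Submodule.mem_bot]
      exact e.injective (Subtype.ext h1)
    · right
      rw [eq_top_iff]
      intro w _
      have h1 : (e w : G) ∈ M := by rw [h]; exact (e w).2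
      obtain ⟨w', hw', h2⟩ := h1
      have : w' = w := e.injective (Subtype.ext h2)
      rwa [← this]

/-- reduction step for the Fitting subgroup -/
theorem not_dvd_index_fitting {G : Type*} [Group G] [Finite G] {p : ℕ} (hp : p.Prime)
    (M : Subgroup G) [hM : M.Normal]
    (h1 : ¬ p ∣ (Cfsg.fittingSubgroup (G ⧸ M)).index)
    (h2 : ¬ p ∣ (Subgroup.centralizer (M : Set G)).index) :
    ¬ p ∣ (Cfsg.fittingSubgroup G).index := by
  intro h
  have hFn : (Cfsg.fittingSubgroup (G ⧸ M)).Normal := Lib.Cores.fittingSubgroup_normal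
  set F1 := (Cfsg.fittingSubgroup (G ⧸ M)).comap (QuotientGroup.mk' M) with hF1
  set C := Subgroup.centralizer (M : Set G) with hC
  have hCn : C.Normal := Subgroup.normal_centralizer
  have hF1n : F1.Normal := hFn.comap _
  have hX : (F1 ⊓ C).Normal := Subgroup.normal_inf_normal F1 C
  have hXnil : Group.IsNilpotent (F1 ⊓ C : Subgroup G) := by
    have hFnil : Group.IsNilpotent (Cfsg.fittingSubgroup (G ⧸ M)) :=
      Lib.Cores.fittingSubgroup_isNilpotent
    let f : (F1 ⊓ C : Subgroup G) →* Cfsg.fittingSubgroup (G ⧸ M) :=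
      { toFun := fun x => ⟨QuotientGroup.mk' M x, (Subgroup.mem_inf.1 x.2).1⟩
        map_one' := Subtype.ext (map_one (QuotientGroup.mk' M))
        map_mul' := fun a b => Subtype.ext (map_mul (QuotientGroup.mk' M) (a : G) b) }
    refine Subgroup.isNilpotent_of_ker_le_center f ?_
    intro x hx
    rw [MonoidHom.mem_ker] at hx
    have hxM : (x : G) ∈ M := by
      have h3 : QuotientGroup.mk' M (x : G) = 1 := congrArg Subtype.val hx
      rwa [← MonoidHom.mem_ker, QuotientGroup.ker_mk'] at h3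
    rw [Subgroup.mem_center_iff]
    intro y
    apply Subtype.ext
    exact (Subgroup.mem_centralizer_iff.1 (Subgroup.mem_inf.1 y.2).2 (x : G) hxM).symm
  have hle : F1 ⊓ C ≤ Cfsg.fittingSubgroup G := Lib.Cores.le_fittingSubgroup hX hXnil
  have h3 : p ∣ (F1 ⊓ C).index := dvd_trans h (Subgroup.index_dvd_of_le hle)
  have h4 : (F1 ⊓ C).relIndex F1 * F1.index = (F1 ⊓ C).index :=
    Subgroup.relIndex_mul_index inf_le_left
  rw [← h4, Subgroup.inf_relIndex_left] at h3
  rcases (hp.dvd_mul).1 h3 with h5 | h5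
  · exact h2 (dvd_trans h5 (Subgroup.relIndex_dvd_index_of_normal C F1))
  · apply h1
    rwa [hF1, Subgroup.index_comap_of_surjective _ (QuotientGroup.mk'_surjective M)] at h5

end Cfsg.Agent.H674.KM
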