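import Mathlib

/-!
# Minimal block idempotents of an irreducible linear group

`ρ : Representation F H V` irreducible, `V` finite.  A *block idempotent* is an idempotent `e ≠ 0`
of `End V` whose conjugates are equal or orthogonal to it.
-/

set_option autoImplicit false

namespace Cfsg.Agent.H674.KM

open Module

variable {F : Type*} [Field F] {V : Type*} [AddCommGroup V] [Module F V] {H : Type*} [Group H]

/-- conjugation of endomorphisms -/
def cj (ρ : Representation F H V) (h : H) (e : End F V) : End F V := ρ h * e * ρ h⁻¹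

theorem rho_mul_inv (ρ : Representation F H V) (h : H) : ρ h * ρ h⁻¹ = 1 := by
  rw [← map_mul, mul_inv_cancel, map_one]

theorem rho_inv_mul (ρ : Representation F H V) (h : H) : ρ h⁻¹ * ρ h = 1 := by
  rw [← map_mul, inv_mul_cancel, map_one]

theorem rho_inv_apply (ρ : Representation F H V) (h : H) (v : V) : ρ h⁻¹ (ρ h v) = v := by
  exact congrArg (fun f : End F V => f v) (rho_inv_mul ρ h)

theorem rho_apply_inv (ρ : Representation F H V) (h : H) (v : V) : ρ h (ρ h⁻¹ v) = v := by
  exact congrArg (fun f : End F V => f v) (rho_mul_inv ρ h)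

theorem cj_one (ρ : Representation F H V) (e : End F V) : cj ρ 1 e = e := by
  simp [cj]

theorem cj_cj (ρ : Representation F H V) (g h : H) (e : End F V) :
    cj ρ g (cj ρ h e) = cj ρ (g * h) e := by
  simp only [cj, map_mul, mul_inv_rev, mul_assoc]

theorem cj_mul (ρ : Representation F H V) (g : H) (e f : End F V) :
    cj ρ g (e * f) = cj ρ g e * cj ρ g f := by
  simp only [cj]
  calc ρ g * (e * f) * ρ g⁻¹ = ρ g * e * 1 * f * ρ g⁻¹ := by simp only [mul_one, mul_assoc]
    _ = _ := by rw [← rho_inv_mul ρ g]; simp only [mul_assoc]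

theorem cj_zero (ρ : Representation F H V) (g : H) : cj ρ g 0 = 0 := by
  simp [cj]

theorem cj_sum (ρ : Representation F H V) (g : H) {ι : Type*} (s : Finset ι) (f : ι → End F V) :
    cj ρ g (∑ i ∈ s, f i) = ∑ i ∈ s, cj ρ g (f i) := by
  simp only [cj, Finset.mul_sum, Finset.sum_mul]

theorem cj_apply (ρ : Representation F H V) (g : H) (e : End F V) (v : V) :
    cj ρ g e v = ρ g (e (ρ g⁻¹ v)) := rfl

theorem cj_rho (ρ : Representation F H V) (g : H) (e : End F V) :
    cj ρ g e * ρ g = ρ g * e := by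
  rw [cj, mul_assoc, rho_inv_mul, mul_one]

theorem cj_injective (ρ : Representation F H V) (g : H) {e f : End F V}
    (h : cj ρ g e = cj ρ g f) : e = f := by
  have := congrArg (cj ρ g⁻¹) h
  rwa [cj_cj, cj_cj, inv_mul_cancel, cj_one, cj_one] at this

/-- the stabiliser of an endomorphism -/
def St (ρ : Representation F H V) (e : End F V) : Subgroup H where
  carrier := {h | cj ρ h e = e}
  mul_mem' := by
    intro a b ha hb
    show cj ρ (a * b) e = e
    rw [← cj_cj, hb, ha]
  one_mem' := cj_one ρ e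
  inv_mem' := by
    intro a ha
    show cj ρ a⁻¹ e = e
    have h1 : cj ρ a e = e := ha
    have := congrArg (cj ρ a⁻¹) h1
    rw [cj_cj, inv_mul_cancel, cj_one] at this
    exact this.symm

theorem mem_St {ρ : Representation F H V} {e : End F V} {h : H} : h ∈ St ρ e ↔ cj ρ h e = e :=
  Iff.rfl

/-- block idempotents -/
structure IsBlk (ρ : Representation F H V) (e : End F V) : Prop where
  idem : e * e = e
  ne : e ≠ 0
  orth : ∀ h, cj ρ h e = e ∨ e * cj ρ h e = 0

/-- irreducibility in elementary form -/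
def Irr (ρ : Representation F H V) : Prop :=
  ∀ W : Submodule F V, (∀ h, ∀ w ∈ W, ρ h w ∈ W) → W = ⊥ ∨ W = ⊤

/-- the conjugates of `e`, indexed by the cosets of the stabiliser -/
noncomputable def pj (ρ : Representation F H V) (e : End F V) (i : H ⧸ St ρ e) : End F V :=
  cj ρ i.out e

theorem pj_mk (ρ : Representation F H V) (e : End F V) (h : H) :
    pj ρ e (QuotientGroup.mk h) = cj ρ h e := by
  obtain ⟨s, hs⟩ := QuotientGroup.mk_out_eq_mul (St ρ e) h
  rw [pj, hs, ← cj_cj, mem_St.1 s.2]

theorem cj_pj (ρ : Representation F H V) (e : End F V) (h : H) (i : H ⧸ St ρ e) :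
    cj ρ h (pj ρ e i) = pj ρ e (h • i) := by
  induction i using QuotientGroup.induction_on with
  | H g =>
    rw [pj_mk, cj_cj, MulAction.Quotient.smul_mk, pj_mk]
    rfl

namespace IsBlk

variable {ρ : Representation F H V} {e : End F V}

theorem pj_mul_self (he : IsBlk ρ e) (i : H ⧸ St ρ e) : pj ρ e i * pj ρ e i = pj ρ e i := by
  rw [pj, ← cj_mul, he.idem]

theorem pj_mul (he : IsBlk ρ e) {i j : H ⧸ St ρ e} (hij : i ≠ j) : pj ρ e i * pj ρ e j = 0 := by
  have h1 : pj ρ e j = cj ρ i.out (cj ρ (i.out⁻¹ * j.out) e) := by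
    rw [cj_cj, mul_inv_cancel_left, pj]
  rw [h1, pj, ← cj_mul]
  rcases he.orth (i.out⁻¹ * j.out) with h | h
  · exfalso
    apply hij
    have h2 : i.out⁻¹ * j.out ∈ St ρ e := h
    rw [← QuotientGroup.eq] at h2
    simpa using h2
  · rw [h, cj_zero]

theorem sum_pj [Finite H] (he : IsBlk ρ e) (hirr : Irr ρ) [Fintype (H ⧸ St ρ e)] :
    ∑ i, pj ρ e i = 1 := by
  classical
  set f : End F V := ∑ i, pj ρ e i with hf
  have hff : f * f = f := by
    conv_lhs => rw [hf, Finset.sum_mul_sum]
    rw [hf]
    refine Finset.sum_congr rfl fun i _ => ?_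
    rw [Finset.sum_eq_single i]
    · exact he.pj_mul_self i
    · intro j _ hj
      exact he.pj_mul (Ne.symm hj)
    · simp
  have hcj : ∀ h, cj ρ h f = f := by
    intro h
    rw [hf, cj_sum]
    simp only [cj_pj]
    exact Fintype.sum_equiv (MulAction.toPerm h) _ _ (fun i => rfl)
  have hcomm : ∀ h, ρ h * f = f * ρ h := by
    intro h
    rw [← cj_rho ρ h f, hcj h]
  have hfe : f * e = e := by
    have h1 : e = pj ρ e (QuotientGroup.mk 1) := by rw [pj_mk, cj_one]
    rw [hf, Finset.sum_mul, Finset.sum_eq_single (QuotientGroup.mk 1)]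
    · rw [← h1, he.idem]
    · intro j _ hj
      have h2 := he.pj_mul hj
      rwa [← h1] at h2
    · simp
  have hr : LinearMap.range f = ⊤ := by
    refine (hirr (LinearMap.range f) ?_).resolve_left ?_
    · rintro h _ ⟨v, rfl⟩
      refine ⟨ρ h v, ?_⟩
      have := congrArg (fun g : End F V => g v) (hcomm h)
      exact this.symm
    · intro h0
      rw [LinearMap.range_eq_bot] at h0
      rw [h0, zero_mul] at hfe
      exact he.ne hfe.symm
  apply LinearMap.ext
  intro v
  have hv : v ∈ LinearMap.range f := by rw [hr]; trivial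
  obtain ⟨u, rfl⟩ := hv
  exact congrArg (fun g : End F V => g u) hff

theorem mem_range_iff (he : IsBlk ρ e) (w : V) : w ∈ LinearMap.range e ↔ e w = w := by
  constructor
  · rintro ⟨u, rfl⟩
    exact congrArg (fun g : End F V => g u) he.idem
  · intro h
    exact ⟨w, h⟩

/-- `e ρ(h) e = 0` when `h` is not in the stabiliser -/
theorem mul_rho_mul (he : IsBlk ρ e) {h : H} (hh : h ∉ St ρ e) : e * ρ h * e = 0 := by
  have h1 : e * cj ρ h e = 0 := (he.orth h).resolve_left hh
  have h2 := congrArg (fun g => g * ρ h) h1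
  simp only [cj, zero_mul, mul_assoc, rho_inv_mul, mul_one] at h2
  rw [mul_assoc]
  exact h2

theorem comm_of_mem {h : H} (hh : h ∈ St ρ e) : ρ h * e = e * ρ h := by
  rw [← cj_rho ρ h e, mem_St.1 hh]

/-- cardinality of `V` from that of a block -/
theorem card_eq [Finite H] [Finite V] (he : IsBlk ρ e) (hirr : Irr ρ) :
    Nat.card V = Nat.card (LinearMap.range e) ^ (St ρ e).index := by
  classical
  have : Fintype (H ⧸ St ρ e) := Fintype.ofFinite _
  let Φ : V → (H ⧸ St ρ e → LinearMap.range e) := fun v i => ⟨e (ρ i.out⁻¹ v), ⟨_, rfl⟩⟩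
  have hinj : Function.Injective Φ := by
    intro v v' h
    have h1 : ∀ i : H ⧸ St ρ e, pj ρ e i v = pj ρ e i v' := by
      intro i
      have h2 : e (ρ i.out⁻¹ v) = e (ρ i.out⁻¹ v') := congrArg Subtype.val (congrFun h i)
      rw [pj, cj_apply, cj_apply, h2]
    have h3 : (∑ i, pj ρ e i) v = (∑ i, pj ρ e i) v' := by
      rw [LinearMap.sum_apply, LinearMap.sum_apply]
      exact Finset.sum_congr rfl fun i _ => h1 i
    rw [he.sum_pj hirr] at h3
    exact h3
  have hsurj : Function.Surjective Φ := by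
    intro w
    refine ⟨∑ j, ρ j.out (w j), ?_⟩
    funext i
    apply Subtype.ext
    show e (ρ i.out⁻¹ (∑ j, ρ j.out (w j))) = w i
    rw [map_sum, map_sum, Finset.sum_eq_single i]
    · rw [rho_inv_apply]
      exact (he.mem_range_iff _).1 (w i).2
    · intro j _ hj
      have h1 : i.out⁻¹ * j.out ∉ St ρ e := by
        intro h
        rw [← QuotientGroup.eq] at h
        exact hj (by simpa using h.symm)
      have h2 := congrArg (fun g : End F V => g (w j)) (he.mul_rho_mul h1)
      have h3 : e (w j : V) = w j := (he.mem_range_iff _).1 (w j).2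
      simp only [Module.End.mul_apply, h3, map_mul, LinearMap.zero_apply] at h2
      exact h2
    · simp
  have hc := Nat.card_congr (Equiv.ofBijective Φ ⟨hinj, hsurj⟩)
  rw [hc, Nat.card_fun, Subgroup.index]

/-- the number of blocks on which `v` is non-zero -/
noncomputable def wt (ρ : Representation F H V) (e : End F V) (v : V) : ℕ :=
  Nat.card {i : H ⧸ St ρ e // pj ρ e i v ≠ 0}

theorem wt_rho (h : H) (v : V) : wt ρ e (ρ h v) = wt ρ e v := by
  symm
  apply Nat.card_congr
  have key : ∀ i : H ⧸ St ρ e, pj ρ e (h • i) (ρ h v) = ρ h (pj ρ e i v) := by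
    intro i
    rw [← cj_pj, cj_apply, rho_inv_apply]
  refine
    { toFun := fun i => ⟨h • i.1, ?_⟩
      invFun := fun i => ⟨h⁻¹ • i.1, ?_⟩
      left_inv := ?_
      right_inv := ?_ }
  · rw [key]
    intro h0
    apply i.2
    have := congrArg (ρ h⁻¹) h0
    rwa [rho_inv_apply, map_zero] at this
  · intro h0
    apply i.2
    have := key (h⁻¹ • i.1)
    rw [h0, map_zero, smul_inv_smul] at this
    exact this
  · intro i
    exact Subtype.ext (inv_smul_smul h i.1)
  · intro i
    exact Subtype.ext (smul_inv_smul h i.1)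

/-- all values of the weight are attained -/
theorem exists_wt [Finite H] (he : IsBlk ρ e) (k : ℕ) (hk : k ≤ (St ρ e).index) :
    ∃ v : V, wt ρ e v = k := by
  classical
  have : Fintype (H ⧸ St ρ e) := Fintype.ofFinite _
  have h1 : k ≤ (Finset.univ : Finset (H ⧸ St ρ e)).card := by
    rw [Finset.card_univ, ← Nat.card_eq_fintype_card]
    exact hk
  obtain ⟨T, -, hT⟩ := Finset.exists_subset_card_eq h1
  obtain ⟨u, hu⟩ : ∃ u, e u ≠ 0 := by
    by_contra hcon
    push Not at hcon
    exact he.ne (LinearMap.ext fun v => by rw [hcon v]; rfl)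
  have heu : e (e u) = e u := congrArg (fun g : End F V => g u) he.idem
  refine ⟨∑ j ∈ T, ρ j.out (e u), ?_⟩
  have key : ∀ i, pj ρ e i (∑ j ∈ T, ρ j.out (e u)) = if i ∈ T then ρ i.out (e u) else 0 := by
    intro i
    rw [pj, cj_apply, map_sum, map_sum]
    have h2 : ∀ j ∈ T, e (ρ i.out⁻¹ (ρ j.out (e u))) = if i = j then e u else 0 := by
      intro j _
      split_ifs with hij
      · rw [hij, rho_inv_apply, heu]
      · have h3 : i.out⁻¹ * j.out ∉ St ρ e := by
          intro h
          rw [← QuotientGroup.eq] at h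
          exact hij (by simpa using h)
        have h4 := congrArg (fun g : End F V => g u) (he.mul_rho_mul h3)
        simp only [Module.End.mul_apply, map_mul, LinearMap.zero_apply] at h4
        exact h4
    rw [Finset.sum_congr rfl h2, Finset.sum_ite_eq]
    split_ifs
    · rfl
    · rw [map_zero]
  have h5 : ∀ i : H ⧸ St ρ e, pj ρ e i (∑ j ∈ T, ρ j.out (e u)) ≠ 0 ↔ i ∈ T := by
    intro i
    rw [key]
    split_ifs with hi
    · refine ⟨fun _ => hi, fun _ h0 => hu ?_⟩
      have := congrArg (ρ i.out⁻¹) h0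
      rwa [rho_inv_apply, map_zero] at this
    · simp [hi]
  rw [wt, ← hT, Nat.card_congr (Equiv.subtypeEquivRight h5), Nat.card_eq_fintype_card,
    Fintype.card_coe]

end IsBlk

end Cfsg.Agent.H674.KM
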