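import Cfsg.Agent.H674.KM.Block

/-!
# The stabiliser of a minimal block idempotent acts quasi-primitively

For every normal subgroup `B` of the stabiliser `S` of a minimal block `W` that acts on `W`
commutatively, the algebra `F[B] ⊆ End W` is a field.
-/

set_option autoImplicit false

namespace Cfsg.Agent.H674.KM

open Module

variable {F : Type*} [Field F] {V : Type*} [AddCommGroup V] [Module F V] {H : Type*} [Group H]

/-- the size of the image -/
noncomputable def sz (e : End F V) : ℕ := Nat.card (LinearMap.range e)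

/-- minimal block idempotents -/
structure IsMin (ρ : Representation F H V) (e : End F V) : Prop extends IsBlk ρ e where
  min : ∀ f, IsBlk ρ f → sz e ≤ sz f

theorem isBlk_one [Nontrivial V] (ρ : Representation F H V) : IsBlk ρ (1 : End F V) where
  idem := one_mul 1
  ne := one_ne_zero
  orth := by
    intro h
    left
    rw [cj, mul_one, rho_mul_inv]

theorem exists_isMin [Nontrivial V] (ρ : Representation F H V) : ∃ e, IsMin ρ e := by
  classical
  have hex : ∃ n, ∃ e, IsBlk ρ e ∧ sz e = n := ⟨_, 1, isBlk_one ρ, rfl⟩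
  obtain ⟨e, he, hn⟩ := Nat.find_spec hex
  refine ⟨e, he, fun f hf => ?_⟩
  rw [hn]
  exact Nat.find_min' hex ⟨f, hf, rfl⟩

/-- the quasi-primitivity condition -/
def QP {S : Type*} [Group S] {W : Type*} [AddCommGroup W] [Module F W]
    (σ : Representation F S W) : Prop :=
  ∀ B : Subgroup S, B.Normal → (∀ a ∈ B, ∀ b ∈ B, σ a * σ b = σ b * σ a) →
    ∀ x ∈ Algebra.adjoin F (σ '' (B : Set S)), x ≠ 0 → IsUnit x

section alg

variable {S : Type*} [Group S] {W : Type*} [AddCommGroup W] [Module F W]
  (σ : Representation F S W) (B : Subgroup S)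

theorem adjoin_comm (hB : ∀ a ∈ B, ∀ b ∈ B, σ a * σ b = σ b * σ a)
    {x y : End F W} (hx : x ∈ Algebra.adjoin F (σ '' (B : Set S)))
    (hy : y ∈ Algebra.adjoin F (σ '' (B : Set S))) : x * y = y * x := by
  have h1 : ∀ b ∈ σ '' (B : Set S), Commute x b := by
    intro b hb
    refine (Algebra.commute_of_mem_adjoin_of_forall_mem_commute hx ?_).symm
    rintro _ ⟨a, ha, rfl⟩
    obtain ⟨c, hc, rfl⟩ := hb
    exact hB c hc a ha
  exact Algebra.commute_of_mem_adjoin_of_forall_mem_commute hy h1

theorem cj_mem_adjoin [B.Normal] (s : S) {x : End F W}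
    (hx : x ∈ Algebra.adjoin F (σ '' (B : Set S))) :
    cj σ s x ∈ Algebra.adjoin F (σ '' (B : Set S)) := by
  induction hx using Algebra.adjoin_induction with
  | mem x hx =>
    obtain ⟨b, hb, rfl⟩ := hx
    apply Algebra.subset_adjoin
    exact ⟨s * b * s⁻¹, Subgroup.Normal.conj_mem inferInstance b hb s, by simp [cj]⟩
  | algebraMap r =>
    have : cj σ s (algebraMap F (End F W) r) = algebraMap F (End F W) r := by
      rw [cj, ← Algebra.commutes, mul_assoc, rho_mul_inv, mul_one]
    rw [this]
    exact Subalgebra.algebraMap_mem _ r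
  | add x y _ _ hx hy =>
    have : cj σ s (x + y) = cj σ s x + cj σ s y := by simp only [cj, mul_add, add_mul]
    rw [this]
    exact add_mem hx hy
  | mul x y _ _ hx hy =>
    rw [cj_mul]
    exact mul_mem hx hy

/-- powers eventually idempotent -/
theorem exists_pow_idem {M : Type*} [Monoid M] [Finite M] (x : M) :
    ∃ n : ℕ, 0 < n ∧ x ^ n * x ^ n = x ^ n := by
  obtain ⟨a, b, hab, h⟩ := Finite.exists_ne_map_eq_of_infinite (fun n : ℕ => x ^ n)
  wlog hlt : a < b generalizing a b
  · exact this b a (Ne.symm hab) h.symm (lt_of_le_of_ne (not_lt.1 hlt) (Ne.symm hab))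
  obtain ⟨c, rfl⟩ := Nat.exists_eq_add_of_lt hlt
  -- `x ^ a = x ^ (a + (c + 1))`
  have h1 : ∀ k : ℕ, x ^ (a + k * (c + 1)) = x ^ a := by
    intro k
    induction k with
    | zero => simp
    | succ k ih =>
      have : a + (k + 1) * (c + 1) = (a + k * (c + 1)) + (c + 1) := by ring
      rw [this, pow_add, ih, ← pow_add, ← add_assoc, ← h]
  have h2 : ∀ m k : ℕ, a ≤ m → x ^ (m + k * (c + 1)) = x ^ m := by
    intro m k hm
    obtain ⟨d, rfl⟩ := Nat.exists_eq_add_of_le hm
    have : a + d + k * (c + 1) = (a + k * (c + 1)) + d := by ring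
    rw [this, pow_add, h1, ← pow_add]
  refine ⟨(a + 1) * (c + 1), by positivity, ?_⟩
  rw [← pow_add]
  apply h2
  nlinarith

/-- nilpotent elements of a commutative `S`-stable algebra vanish when `S` is irreducible -/
theorem nil_eq_zero [Finite W] [Nontrivial W] (hirr : Irr σ) [B.Normal]
    (hB : ∀ a ∈ B, ∀ b ∈ B, σ a * σ b = σ b * σ a) {x : End F W}
    (hx : x ∈ Algebra.adjoin F (σ '' (B : Set S))) (hn : IsNilpotent x) : x = 0 := by
  classical
  set R := Algebra.adjoin F (σ '' (B : Set S)) with hR
  -- a minimal non-zero `R`-stable submodule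
  let P : Submodule F W → Prop := fun U => U ≠ ⊥ ∧ ∀ y ∈ R, ∀ w ∈ U, y w ∈ U
  have hex : ∃ n, ∃ U, P U ∧ Nat.card U = n := ⟨_, ⊤, ⟨top_ne_bot, fun _ _ _ _ => trivial⟩, rfl⟩
  obtain ⟨U, hU, hUn⟩ := Nat.find_spec hex
  have hmin : ∀ U', P U' → Nat.card U ≤ Nat.card U' := by
    intro U' hU'
    rw [hUn]
    exact Nat.find_min' hex ⟨U', hU', rfl⟩
  have hkill : ∀ y ∈ R, IsNilpotent y → ∀ w ∈ U, y w = 0 := by
    intro y hy hyn
    by_contra hcon
    push Not at hcon
    obtain ⟨w, hw, hyw⟩ := hcon
    have h1 : P (U.map y) := by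
      refine ⟨?_, ?_⟩
      · intro h0
        apply hyw
        have : y w ∈ U.map y := Submodule.mem_map_of_mem hw
        rw [h0] at this
        exact (Submodule.mem_bot F).1 this
      · rintro z hz _ ⟨u, hu, rfl⟩
        have h2 : z (y u) = y (z u) :=
          congrArg (fun f : End F W => f u) (adjoin_comm σ B hB hz hy)
        rw [h2]
        exact Submodule.mem_map_of_mem (hU.2 z hz u hu)
    have hle : U.map y ≤ U := by
      rintro _ ⟨u, hu, rfl⟩
      exact hU.2 y hy u hu
    have heq : U.map y = U := by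
      apply SetLike.coe_injective
      exact Set.eq_of_subset_of_ncard_le hle (by
        rw [← Nat.card_coe_set_eq, ← Nat.card_coe_set_eq]
        exact hmin _ h1) (Set.toFinite _)
    have hpow : ∀ n : ℕ, U.map (y ^ n) = U := by
      intro n
      induction n with
      | zero => rw [pow_zero]; exact Submodule.map_id U
      | succ n ih =>
        rw [pow_succ, Module.End.mul_eq_comp, Submodule.map_comp, heq, ih]
    obtain ⟨n, hn⟩ := hyn
    have := hpow n
    rw [hn, Submodule.map_zero] at this
    exact hU.1 this.symm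
  -- the common kernel of the nilpotent elements
  let W' : Submodule F W :=
    { carrier := {w | ∀ y ∈ R, IsNilpotent y → y w = 0}
      add_mem' := fun {a b} ha hb y hy hyn => by rw [map_add, ha y hy hyn, hb y hy hyn, add_zero]
      zero_mem' := fun y _ _ => map_zero y
      smul_mem' := fun c w hw y hy hyn => by rw [map_smul, hw y hy hyn, smul_zero] }
  have hW' : W' = ⊤ := by
    refine (hirr W' ?_).resolve_left ?_
    · intro s w hw y hy hyn
      have h1 : cj σ s⁻¹ y ∈ R := cj_mem_adjoin σ B s⁻¹ hy
      have h2 : IsNilpotent (cj σ s⁻¹ y) := by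
        obtain ⟨n, hn⟩ := hyn
        refine ⟨n, ?_⟩
        have h3 : ∀ m : ℕ, (cj σ s⁻¹ y) ^ m = cj σ s⁻¹ (y ^ m) := by
          intro m
          induction m with
          | zero => rw [pow_zero, pow_zero, cj, mul_one, rho_mul_inv]
          | succ m ih => rw [pow_succ, ih, ← cj_mul, ← pow_succ]
        rw [h3, hn, cj_zero]
      have h3 := hw _ h1 h2
      rw [cj_apply, inv_inv] at h3
      have := congrArg (σ s) h3
      rwa [rho_apply_inv, map_zero] at this
    · intro h0
      apply hU.1
      rw [eq_bot_iff, ← h0]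
      intro w hw y hy hyn
      exact hkill y hy hyn w hw
  apply LinearMap.ext
  intro w
  have hw : w ∈ W' := by rw [hW']; trivial
  exact hw x hx hn

end alg

variable {ρ : Representation F H V} {e : End F V}

/-- the stabiliser acts on the block -/
noncomputable def blkRep (ρ : Representation F H V) (e : End F V) :
    Representation F (St ρ e) (LinearMap.range e) where
  toFun s := (ρ (s : H)).restrict (by
    rintro _ ⟨u, rfl⟩
    refine ⟨ρ (s : H) u, ?_⟩
    have := congrArg (fun g : End F V => g u) (IsBlk.comm_of_mem s.2)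
    exact this.symm)
  map_one' := by
    apply LinearMap.ext
    intro w
    apply Subtype.ext
    simp [LinearMap.restrict_apply]
  map_mul' := by
    intro a b
    apply LinearMap.ext
    intro w
    apply Subtype.ext
    simp [LinearMap.restrict_apply]

theorem blkRep_apply (s : St ρ e) (w : LinearMap.range e) :
    ((blkRep ρ e s w : LinearMap.range e) : V) = ρ (s : H) w := rfl

namespace IsMin

/-- the stabiliser acts irreducibly on a block -/
theorem irr (he : IsBlk ρ e) (hirr : Irr ρ) : Irr (blkRep ρ e) := by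
  intro U hU
  by_cases hU0 : U = ⊥
  · exact Or.inl hU0
  right
  let U' : Submodule F V := U.map (LinearMap.range e).subtype
  let X : Submodule F V := ⨆ h : H, U'.map (ρ h)
  have hX : X = ⊤ := by
    refine (hirr X ?_).resolve_left ?_
    · intro h w hw
      have h1 : X ≤ X.comap (ρ h) := by
        refine iSup_le fun g => ?_
        rintro _ ⟨u, hu, rfl⟩
        show ρ h (ρ g u) ∈ X
        have h2 : ρ h (ρ g u) = ρ (h * g) u := by rw [map_mul]; rfl
        rw [h2]
        exact Submodule.mem_iSup_of_mem (h * g) (Submodule.mem_map_of_mem hu)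
      exact h1 hw
    · intro h0
      apply hU0
      rw [eq_bot_iff]
      intro u hu
      have h1 : (u : V) ∈ X := by
        refine Submodule.mem_iSup_of_mem 1 ⟨u, Submodule.mem_map_of_mem hu, ?_⟩
        rw [map_one]
        rfl
      rw [h0] at h1
      exact (Submodule.mem_bot F).2 (Subtype.ext ((Submodule.mem_bot F).1 h1))
  have hle : X ≤ U'.comap e := by
    refine iSup_le fun g => ?_
    rintro _ ⟨_, ⟨u, hu, rfl⟩, rfl⟩
    show e (ρ g (u : V)) ∈ U'
    have heu : e (u : V) = u := (he.mem_range_iff _).1 u.2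
    by_cases hg : g ∈ St ρ e
    · have h1 : e (ρ g (u : V)) = ρ g (u : V) := by
        have := congrArg (fun f : End F V => f (u : V)) (IsBlk.comm_of_mem hg)
        rw [Module.End.mul_apply, Module.End.mul_apply, heu] at this
        exact this.symm
      rw [h1]
      exact ⟨blkRep ρ e ⟨g, hg⟩ u, hU ⟨g, hg⟩ u hu, rfl⟩
    · have h1 := congrArg (fun f : End F V => f (u : V)) (he.mul_rho_mul hg)
      rw [Module.End.mul_apply, Module.End.mul_apply, heu] at h1
      rw [h1]
      exact U'.zero_mem
  rw [eq_top_iff]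
  intro w _
  have hw : (w : V) ∈ X := by rw [hX]; trivial
  obtain ⟨u, hu, huw⟩ := hle hw
  have h1 : e (w : V) = w := (he.mem_range_iff _).1 w.2
  rw [h1] at huw
  have : u = w := Subtype.ext huw
  rwa [← this]

/-- extension of an endomorphism of the block by zero -/
noncomputable def ext (e : End F V) (f : End F (LinearMap.range e)) : End F V :=
  (LinearMap.range e).subtype ∘ₗ f ∘ₗ e.rangeRestrict

theorem ext_apply (f : End F (LinearMap.range e)) (v : V) :
    ext e f v = f (e.rangeRestrict v) := rfl

theorem rangeRestrict_coe (he : IsBlk ρ e) (w : LinearMap.range e) :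
    e.rangeRestrict (w : V) = w := by
  apply Subtype.ext
  exact (he.mem_range_iff _).1 w.2

theorem ext_mul (he : IsBlk ρ e) (f g : End F (LinearMap.range e)) :
    ext e f * ext e g = ext e (f * g) := by
  apply LinearMap.ext
  intro v
  rw [Module.End.mul_apply, ext_apply, ext_apply, rangeRestrict_coe he, ext_apply]
  rfl

theorem e_mul_ext (he : IsBlk ρ e) (f : End F (LinearMap.range e)) : e * ext e f = ext e f := by
  apply LinearMap.ext
  intro v
  rw [Module.End.mul_apply, ext_apply]
  exact (he.mem_range_iff _).1 (f (e.rangeRestrict v)).2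

theorem ext_mul_e (he : IsBlk ρ e) (f : End F (LinearMap.range e)) : ext e f * e = ext e f := by
  apply LinearMap.ext
  intro v
  rw [Module.End.mul_apply, ext_apply, ext_apply]
  congr 2
  apply Subtype.ext
  show e (e v) = e v
  exact congrArg (fun g : End F V => g v) he.idem

theorem cj_ext (f : End F (LinearMap.range e)) (s : St ρ e) :
    cj ρ (s : H) (ext e f) = ext e (cj (blkRep ρ e) s f) := by
  apply LinearMap.ext
  intro v
  rw [cj_apply, ext_apply, ext_apply, cj_apply]
  show ρ (s : H) (f (e.rangeRestrict (ρ (s : H)⁻¹ v)) : V) =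
    ρ (s : H) (f (blkRep ρ e s⁻¹ (e.rangeRestrict v)) : V)
  congr 3
  apply Subtype.ext
  show e (ρ (s : H)⁻¹ v) = ρ (s⁻¹ : St ρ e) (e v)
  have := congrArg (fun g : End F V => g v) (IsBlk.comm_of_mem (s⁻¹).2)
  exact this.symm

theorem sz_ext (he : IsBlk ρ e) (f : End F (LinearMap.range e)) : sz (ext e f) = sz f := by
  have h1 : LinearMap.range (ext e f) = (LinearMap.range f).map (LinearMap.range e).subtype := by
    apply le_antisymm
    · rintro _ ⟨v, rfl⟩
      exact ⟨f (e.rangeRestrict v), ⟨_, rfl⟩, rfl⟩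
    · rintro _ ⟨_, ⟨w, rfl⟩, rfl⟩
      refine ⟨(w : V), ?_⟩
      rw [ext_apply, rangeRestrict_coe he]
      rfl
  rw [sz, sz, h1]
  exact (Nat.card_congr (Submodule.equivMapOfInjective _ (Submodule.subtype_injective _)
    (LinearMap.range f)).toEquiv).symm

/-- **quasi-primitivity** of the action on a minimal block -/
theorem qp [Finite V] [Nontrivial V] (he : IsMin ρ e) (hirr : Irr ρ) : QP (blkRep ρ e) := by
  classical
  intro B hBn hB
  set σ := blkRep ρ e with hσ
  have hne : Nontrivial (LinearMap.range e) := by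
    rw [Submodule.nontrivial_iff_ne_bot]
    intro h0
    exact he.ne (LinearMap.range_eq_bot.1 h0)
  have hfin : Finite (End F (LinearMap.range e)) := DFunLike.finite _
  set R := Algebra.adjoin F (σ '' (B : Set (St ρ e))) with hR
  -- for idempotents the image decides
  have hid : ∀ f : End F (LinearMap.range e), f * f = f → sz e ≤ sz f → f = 1 := by
    intro f hf hs
    have h1 : LinearMap.range f = ⊤ := by
      apply SetLike.coe_injective
      apply Set.eq_of_subset_of_ncard_le (Set.subset_univ _) _ (Set.toFinite _)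
      rw [← Nat.card_coe_set_eq, ← Nat.card_coe_set_eq, Nat.card_congr (Equiv.Set.univ _)]
      exact hs
    apply LinearMap.ext
    intro w
    have hw : w ∈ LinearMap.range f := by rw [h1]; trivial
    obtain ⟨u, rfl⟩ := hw
    exact congrArg (fun g : End F (LinearMap.range e) => g u) hf
  -- an idempotent of `R` with minimal image
  have hex : ∃ n, ∃ f ∈ R, f * f = f ∧ f ≠ 0 ∧ sz f = n :=
    ⟨_, 1, one_mem R, one_mul 1, one_ne_zero, rfl⟩
  obtain ⟨f, hfR, hff, hf0, hfn⟩ := Nat.find_spec hex
  have hmin : ∀ g ∈ R, g * g = g → g ≠ 0 → sz f ≤ sz g := by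
    intro g hg hgg hg0
    rw [hfn]
    exact Nat.find_min' hex ⟨g, hg, hgg, hg0, rfl⟩
  -- products of minimal idempotents
  have hprod : ∀ g ∈ R, g * g = g → f * g = 0 ∨ f * g = f := by
    intro g hg hgg
    by_cases h0 : f * g = 0
    · exact Or.inl h0
    right
    have hc : f * g = g * f := adjoin_comm σ B hB hfR hg
    have h1 : (f * g) * (f * g) = f * g := by
      calc (f * g) * (f * g) = f * (g * f) * g := by simp only [mul_assoc]
        _ = f * (f * g) * g := by rw [hc]
        _ = (f * f) * (g * g) := by simp only [mul_assoc]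
        _ = f * g := by rw [hff, hgg]
    have h2 := hmin _ (mul_mem hfR hg) h1 h0
    have h3 : LinearMap.range (f * g) ≤ LinearMap.range f := by
      rintro _ ⟨u, rfl⟩
      exact ⟨g u, rfl⟩
    have h4 : LinearMap.range (f * g) = LinearMap.range f := by
      apply SetLike.coe_injective
      exact Set.eq_of_subset_of_ncard_le h3 (by
        rw [← Nat.card_coe_set_eq, ← Nat.card_coe_set_eq]
        exact h2) (Set.toFinite _)
    apply LinearMap.ext
    intro w
    have hw : f w ∈ LinearMap.range (f * g) := by rw [h4]; exact ⟨w, rfl⟩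
    obtain ⟨u, hu⟩ := hw
    have h5 : (f * g) ((f * g) u) = (f * g) u :=
      congrArg (fun k : End F (LinearMap.range e) => k u) h1
    rw [hu] at h5
    have h6 : (f * g) (f w) = (f * g) w := by
      have : f * g * f = f * g := by
        rw [mul_assoc, ← hc, ← mul_assoc, hff]
      exact congrArg (fun k : End F (LinearMap.range e) => k w) this
    rw [← h6, h5]
  have hblk : IsBlk ρ (ext e f) := by
    refine ⟨?_, ?_, ?_⟩
    · rw [ext_mul he.toIsBlk, hff]
    · intro h0
      apply hf0
      apply LinearMap.ext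
      intro w
      apply Subtype.ext
      have := congrArg (fun k : End F V => k (w : V)) h0
      rw [ext_apply, rangeRestrict_coe he.toIsBlk] at this
      exact this
    · intro h
      by_cases hh : h ∈ St ρ e
      · have h1 : cj ρ h (ext e f) = ext e (cj σ ⟨h, hh⟩ f) := cj_ext f ⟨h, hh⟩
        have h2 : cj σ ⟨h, hh⟩ f ∈ R := cj_mem_adjoin σ B ⟨h, hh⟩ hfR
        have h3 : cj σ ⟨h, hh⟩ f * cj σ ⟨h, hh⟩ f = cj σ ⟨h, hh⟩ f := by rw [← cj_mul, hff]
        rw [h1, ext_mul he.toIsBlk]
        rcases hprod _ h2 h3 with h4 | h4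
        · right
          rw [h4]
          apply LinearMap.ext
          intro v
          rfl
        · left
          congr 1
          -- symmetric argument
          have h5 : cj σ ⟨h, hh⟩⁻¹ f ∈ R := cj_mem_adjoin σ B _ hfR
          have h6 : cj σ ⟨h, hh⟩⁻¹ f * cj σ ⟨h, hh⟩⁻¹ f = cj σ ⟨h, hh⟩⁻¹ f := by
            rw [← cj_mul, hff]
          have h7 : f * cj σ ⟨h, hh⟩⁻¹ f ≠ 0 := by
            intro h8
            have h9 := congrArg (cj σ ⟨h, hh⟩) h8
            rw [cj_mul, cj_cj, mul_inv_cancel, cj_one, cj_zero] at h9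
            have h10 : f * cj σ ⟨h, hh⟩ f = cj σ ⟨h, hh⟩ f * f := adjoin_comm σ B hB hfR h2
            rw [h10, h9] at h4
            exact hf0 h4.symm
          have h8 := (hprod _ h5 h6).resolve_left h7
          have h9 := congrArg (cj σ ⟨h, hh⟩) h8
          rw [cj_mul, cj_cj, mul_inv_cancel, cj_one] at h9
          rw [← h9, ← adjoin_comm σ B hB hfR h2, h4]
      · right
        have h1 : e * cj ρ h e = 0 := (he.orth h).resolve_left hh
        calc ext e f * cj ρ h (ext e f)
            = (ext e f * e) * cj ρ h (e * ext e f) := by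
              rw [ext_mul_e he.toIsBlk, e_mul_ext he.toIsBlk]
          _ = ext e f * (e * cj ρ h e) * cj ρ h (ext e f) := by
              rw [cj_mul]; simp only [mul_assoc]
          _ = 0 := by rw [h1, mul_zero, zero_mul]
  have hf1 : f = 1 := by
    apply hid f hff
    rw [← sz_ext he.toIsBlk f]
    exact he.min _ hblk
  have hone : ∀ g ∈ R, g * g = g → g ≠ 0 → g = 1 := by
    intro g hg hgg hg0
    apply hid g hgg
    refine le_trans ?_ (hmin g hg hgg hg0)
    rw [← sz_ext he.toIsBlk f]
    exact he.min _ hblk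
  intro x hx hx0
  obtain ⟨n, hn, hxn⟩ := exists_pow_idem x
  by_cases h0 : x ^ n = 0
  · exact absurd (nil_eq_zero σ B (irr he.toIsBlk hirr) hB hx ⟨n, h0⟩) hx0
  · have h1 := hone (x ^ n) (pow_mem hx n) hxn h0
    exact IsUnit.of_pow_eq_one h1 hn.ne'

end IsMin

end Cfsg.Agent.H674.KM
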