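import Mathlib
import Cfsg.Agent.H489.DixonPerm

/-!
# Indices of normal cores
-/

set_option autoImplicit false

namespace Cfsg.Agent.H674.KM

open Pointwise

/-- the normal core of a subgroup normalised by `S` is the intersection of its conjugates by
coset representatives of `S` -/
theorem normalCore_eq_iInf {H : Type*} [Group H] (S X : Subgroup H)
    (hX : ∀ s ∈ S, ∀ x ∈ X, s * x * s⁻¹ ∈ X) :
    X.normalCore = ⨅ i : H ⧸ S, MulAut.conj i.out • X := by
  ext a
  rw [Subgroup.mem_iInf]
  constructor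
  · intro h i
    rw [Subgroup.mem_pointwise_smul_iff_inv_smul_mem]
    have := h i.out⁻¹
    simpa using this
  · intro h b
    have h1 := h (QuotientGroup.mk b⁻¹)
    rw [Subgroup.mem_pointwise_smul_iff_inv_smul_mem] at h1
    obtain ⟨s, hs⟩ := QuotientGroup.mk_out_eq_mul S b⁻¹
    rw [hs] at h1
    have h2 : ((s : H)⁻¹ * b) * a * ((s : H)⁻¹ * b)⁻¹ ∈ X := by
      simpa [mul_assoc] using h1
    have h3 := hX s s.2 _ h2
    convert h3 using 1
    group

theorem relIndex_core_le {H : Type*} [Group H] [Finite H] (S X Y : Subgroup H)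
    (hX : ∀ s ∈ S, ∀ x ∈ X, s * x * s⁻¹ ∈ X) (hY : ∀ s ∈ S, ∀ x ∈ Y, s * x * s⁻¹ ∈ Y) :
    X.normalCore.relIndex Y.normalCore ≤ X.relIndex Y ^ S.index := by
  have : Fintype (H ⧸ S) := Fintype.ofFinite _
  rw [normalCore_eq_iInf S X hX]
  refine le_trans (Subgroup.relIndex_iInf_le _) ?_
  have h1 : ∀ i : H ⧸ S, (MulAut.conj i.out • X).relIndex Y.normalCore ≤ X.relIndex Y := by
    intro i
    have h2 : Y.normalCore ≤ MulAut.conj i.out • Y := by
      rw [normalCore_eq_iInf S Y hY]
      exact iInf_le _ i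
    have h3 := Subgroup.relIndex_le_of_le_right (H := MulAut.conj i.out • X) h2
      Subgroup.FiniteIndex.index_ne_zero
    rwa [Subgroup.relIndex_pointwise_smul] at h3
  refine le_trans (Finset.prod_le_prod' fun i _ => h1 i) ?_
  rw [Finset.prod_const, Finset.card_univ, ← Nat.card_eq_fintype_card]
  rfl

/-- Dixon's bound for the action on the cosets of `S`, in weak form -/
theorem relIndex_core_le_three {H : Type*} [Group H] [Finite H] (hsol : Group.IsSolvable H)
    (S X : Subgroup H) : S.normalCore.relIndex X ≤ 3 ^ (S.index - 1) := by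
  have hpos : 0 < S.index := Nat.pos_of_ne_zero Subgroup.FiniteIndex.index_ne_zero
  have h1 : S.normalCore.relIndex X =
      Nat.card (X.map (MulAction.toPermHom H (H ⧸ S))) := by
    rw [Subgroup.normalCore_eq_ker, Subgroup.relIndex_ker]
  have h2 : Group.IsSolvable (X.map (MulAction.toPermHom H (H ⧸ S))) := by
    have h3 : Group.IsSolvable X := inferInstance
    exact Group.isSolvable_of_surjective (f := (MulAction.toPermHom H (H ⧸ S)).subgroupMap X)
      ((MulAction.toPermHom H (H ⧸ S)).subgroupMap_surjective X)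
  have h3 := H489.card_pow_three_le S.index (H ⧸ S) (X.map (MulAction.toPermHom H (H ⧸ S))) h2 rfl
    hpos
  rw [← h1] at h3
  have h4 : S.normalCore.relIndex X ^ 3 ≤ (3 ^ (S.index - 1)) ^ 3 := by
    refine le_trans h3 ?_
    rw [← pow_mul, mul_comm, pow_mul]
    exact Nat.pow_le_pow_left (by norm_num) _
  exact (Nat.pow_le_pow_iff_left (by norm_num)).1 h4

end Cfsg.Agent.H674.KM
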