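import Cfsg.Agent.H674.KM.StructL
import Cfsg.Agent.H674.KM.Core

/-!
# The engine: subgroups `A ≤ N₁` of a solvable irreducible linear group
-/

set_option autoImplicit false

namespace Cfsg.Agent.H674.KM

open Module

universe u v w

variable {F : Type u} [Field F] {V : Type w} [AddCommGroup V] [Module F V] {H : Type v} [Group H]
  {ρ : Representation F H V} {e : End F V}

/-- the action of the stabiliser on the block, as units -/
noncomputable def phi (ρ : Representation F H V) (e : End F V) :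
    St ρ e →* (End F (LinearMap.range e))ˣ := (blkRep ρ e).toHomUnits

theorem phi_coe (s : St ρ e) : ((phi ρ e s : (End F (LinearMap.range e))ˣ) :
    End F (LinearMap.range e)) = blkRep ρ e s := rfl

/-- the linear group induced on the block -/
noncomputable abbrev Lg (ρ : Representation F H V) (e : End F V) : Subgroup (End F (LinearMap.range e))ˣ :=
  (phi ρ e).range

/-- its natural representation -/
noncomputable def sig (ρ : Representation F H V) (e : End F V) :
    Representation F (Lg ρ e) (LinearMap.range e) :=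
  (Units.coeHom _).comp (Lg ρ e).subtype

theorem sig_injective : Function.Injective (sig ρ e) := by
  intro a b h
  apply Subtype.ext
  exact Units.ext h

/-- the surjection from the stabiliser -/
noncomputable abbrev phi' (ρ : Representation F H V) (e : End F V) : St ρ e →* Lg ρ e :=
  (phi ρ e).rangeRestrict

theorem sig_phi' (s : St ρ e) : sig ρ e (phi' ρ e s) = blkRep ρ e s := rfl

theorem phi'_surjective : Function.Surjective (phi' ρ e) := (phi ρ e).rangeRestrict_surjective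

theorem qp_sig (h : QP (blkRep ρ e)) : QP (sig ρ e) := by
  intro B hBn hB x hx hx0
  have h1 : sig ρ e '' (B : Set (Lg ρ e)) =
      blkRep ρ e '' ((B.comap (phi' ρ e) : Subgroup (St ρ e)) : Set (St ρ e)) := by
    ext y
    constructor
    · rintro ⟨b, hb, rfl⟩
      obtain ⟨s, rfl⟩ := phi'_surjective b
      exact ⟨s, hb, rfl⟩
    · rintro ⟨s, hs, rfl⟩
      exact ⟨phi' ρ e s, hs, rfl⟩
  refine h (B.comap (phi' ρ e)) (hBn.comap _) ?_ x (h1 ▸ hx) hx0
  intro a ha b hb
  exact hB (phi' ρ e a) ha (phi' ρ e b) hb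

/-- pull back a subgroup of the linear group on the block -/
noncomputable def up (X : Subgroup (Lg ρ e)) : Subgroup H :=
  (X.comap (phi' ρ e)).map (St ρ e).subtype

theorem mem_up {X : Subgroup (Lg ρ e)} {h : H} :
    h ∈ up X ↔ ∃ hs : h ∈ St ρ e, phi' ρ e ⟨h, hs⟩ ∈ X := by
  constructor
  · rintro ⟨s, hs, rfl⟩
    exact ⟨s.2, hs⟩
  · rintro ⟨hs, h1⟩
    exact ⟨⟨h, hs⟩, h1, rfl⟩

theorem up_le (X : Subgroup (Lg ρ e)) : up X ≤ St ρ e := by
  intro h hh
  exact (mem_up.1 hh).1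

theorem up_conj {X : Subgroup (Lg ρ e)} (hX : X.Normal) :
    ∀ s ∈ St ρ e, ∀ x ∈ up X, s * x * s⁻¹ ∈ up X := by
  intro s hs x hx
  obtain ⟨hxs, hx1⟩ := mem_up.1 hx
  rw [mem_up]
  refine ⟨(St ρ e).mul_mem ((St ρ e).mul_mem hs hxs) ((St ρ e).inv_mem hs), ?_⟩
  have h1 := hX.conj_mem _ hx1 (phi' ρ e ⟨s, hs⟩)
  rw [← map_inv, ← map_mul, ← map_mul] at h1
  exact h1

theorem up_top : up (⊤ : Subgroup (Lg ρ e)) = St ρ e := by
  apply le_antisymm (up_le _)
  intro h hh
  exact mem_up.2 ⟨hh, trivial⟩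

theorem up_mono {X Y : Subgroup (Lg ρ e)} (h : X ≤ Y) : up X ≤ up Y := by
  intro a ha
  obtain ⟨h1, h2⟩ := mem_up.1 ha
  exact mem_up.2 ⟨h1, h h2⟩

theorem relIndex_up (X Y : Subgroup (Lg ρ e)) : (up X).relIndex (up Y) = X.relIndex Y := by
  rw [up, up, Subgroup.relIndex_map_map_of_injective _ _ (St ρ e).subtype_injective,
    Subgroup.relIndex_comap, Subgroup.map_comap_eq_self_of_surjective phi'_surjective]

/-- the kernel on the block has trivial core -/
theorem core_up_bot [Finite H] (he : IsBlk ρ e) (hinj : Function.Injective ρ) (hirr : Irr ρ) :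
    (up (⊥ : Subgroup (Lg ρ e))).normalCore = ⊥ := by
  classical
  rw [eq_bot_iff]
  intro a ha
  rw [Subgroup.mem_bot]
  apply hinj
  rw [map_one]
  have : Fintype (H ⧸ St ρ e) := Fintype.ofFinite _
  have hsum := he.sum_pj hirr
  have h1 : ∀ i : H ⧸ St ρ e, ρ a * pj ρ e i = pj ρ e i := by
    intro i
    have h2 : i.out⁻¹ * a * (i.out⁻¹)⁻¹ ∈ up (⊥ : Subgroup (Lg ρ e)) := ha i.out⁻¹
    obtain ⟨hs, h3⟩ := mem_up.1 h2
    rw [Subgroup.mem_bot] at h3
    have h4 : blkRep ρ e ⟨_, hs⟩ = 1 := by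
      rw [← sig_phi', h3]
      rfl
    apply LinearMap.ext
    intro v
    rw [Module.End.mul_apply, pj, cj_apply]
    have h5 : ρ (i.out⁻¹ * a * (i.out⁻¹)⁻¹) (e (ρ i.out⁻¹ v)) = e (ρ i.out⁻¹ v) := by
      have h6 := congrArg (fun f : End F (LinearMap.range e) =>
        ((f ⟨e (ρ i.out⁻¹ v), ⟨_, rfl⟩⟩ : LinearMap.range e) : V)) h4
      exact h6
    have h7 := congrArg (ρ i.out) h5
    rw [← Module.End.mul_apply, ← map_mul] at h7
    have h8 : i.out * (i.out⁻¹ * a * (i.out⁻¹)⁻¹) = a * i.out := by group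
    rw [h8, map_mul, Module.End.mul_apply] at h7
    exact h7
  calc ρ a = ρ a * ∑ i, pj ρ e i := by rw [hsum, mul_one]
    _ = ∑ i, ρ a * pj ρ e i := by rw [Finset.mul_sum]
    _ = ∑ i, pj ρ e i := Finset.sum_congr rfl fun i _ => h1 i
    _ = 1 := hsum

/-- **The engine.** -/
theorem engine [Finite F] [Finite V] [Nontrivial V] [Finite H] (hsol : Group.IsSolvable H)
    (hinj : Function.Injective ρ) (hirr : Irr ρ) (he : IsMin ρ e) (Z : Subgroup H)
    (hZn : Z.Normal) (hZ : ∀ a ∈ Z, ∀ b ∈ Z, a * b = b * a) (hZS : Z ≤ St ρ e) :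
    ∃ (A N1 : Subgroup H) (N d0 δ m : ℕ), A.Normal ∧ N1.Normal ∧ A ≤ N1 ∧ Z ≤ A ∧
      (∀ a ∈ A, ∀ n ∈ N1, a * n = n * a) ∧ 0 < N ∧ 0 < d0 ∧ 0 < δ ∧ 0 < m ∧
      Nat.card V = Nat.card F ^ (d0 * δ * m * (St ρ e).index) ∧
      A.relIndex N1 ≤ (N ^ (1 + Nat.log 2 N)) ^ (St ρ e).index ∧ N ≤ m ^ 2 ∧
      N1.index ≤ 3 ^ ((St ρ e).index - 1) * (d0 * δ) ^ (St ρ e).index ∧
      ((Nat.card Z).Prime → Nat.card Z ∣ Nat.card F ^ d0 - 1 ∧
        (Subgroup.centralizer (Z : Set H)).index ≤ (St ρ e).index * d0 ∧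
        N1.relIndex (Subgroup.centralizer (Z : Set H)) ≤
          3 ^ ((St ρ e).index - 1) * δ ^ (St ρ e).index) := by
  classical
  set k := (St ρ e).index with hk
  have hblk := he.toIsBlk
  have hne : Nontrivial (LinearMap.range e) := by
    rw [Submodule.nontrivial_iff_ne_bot]
    intro h0
    exact he.ne (LinearMap.range_eq_bot.1 h0)
  have hfinL : Finite (Lg ρ e) := Finite.of_surjective _ phi'_surjective
  have hsolL : Group.IsSolvable (Lg ρ e) :=
    Group.isSolvable_of_surjective (phi'_surjective (ρ := ρ) (e := e))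
  -- the image of `Z`
  let ZL : Subgroup (Lg ρ e) := (Z.subgroupOf (St ρ e)).map (phi' ρ e)
  have hZL : ∀ z (hz : z ∈ Z), phi' ρ e ⟨z, hZS hz⟩ ∈ ZL := fun z hz => ⟨⟨z, hZS hz⟩, hz, rfl⟩
  have hZLn : ZL.Normal := by
    have h1 : (Z.subgroupOf (St ρ e)).Normal := inferInstance
    exact h1.map _ phi'_surjective
  have hZLc : ∀ a ∈ ZL, ∀ b ∈ ZL, a * b = b * a := by
    rintro _ ⟨a, ha, rfl⟩ _ ⟨b, hb, rfl⟩
    rw [← map_mul, ← map_mul]
    congr 1
    exact Subtype.ext (hZ a ha b hb)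
  obtain ⟨U, C, N, d0, δ, m, D⟩ := structure_L hsolL (sig ρ e) sig_injective
    (qp_sig (he.qp hirr)) ZL hZLn hZLc
  have hUn := D.hUn
  have hCn := D.hCn
  have hCZ : C ≤ Subgroup.centralizer (ZL : Set (Lg ρ e)) := by
    intro c hc
    rw [Subgroup.mem_centralizer_iff]
    intro z hz
    exact D.comm z (D.hZU hz) c hc
  have hcore := core_up_bot hblk hinj hirr
  have hcomm : ∀ a ∈ (up U).normalCore, ∀ n ∈ (up C).normalCore, a * n = n * a := by
    intro a ha n hn
    have h1 : a * n * a⁻¹ * n⁻¹ ∈ (up (⊥ : Subgroup (Lg ρ e))).normalCore := by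
      intro b
      have ha' := ha b
      have hn' := hn b
      obtain ⟨h2, h3⟩ := mem_up.1 ha'
      obtain ⟨h4, h5⟩ := mem_up.1 hn'
      have h6 := D.comm _ h3 _ h5
      have h7 : b * (a * n * a⁻¹ * n⁻¹) * b⁻¹ =
          (b * a * b⁻¹) * (b * n * b⁻¹) * (b * a * b⁻¹)⁻¹ * (b * n * b⁻¹)⁻¹ := by group
      rw [h7, mem_up]
      refine ⟨(St ρ e).mul_mem ((St ρ e).mul_mem ((St ρ e).mul_mem h2 h4)
        ((St ρ e).inv_mem h2)) ((St ρ e).inv_mem h4), ?_⟩
      rw [Subgroup.mem_bot]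
      have h8 : (⟨(b * a * b⁻¹) * (b * n * b⁻¹) * (b * a * b⁻¹)⁻¹ * (b * n * b⁻¹)⁻¹,
          (St ρ e).mul_mem ((St ρ e).mul_mem ((St ρ e).mul_mem h2 h4)
          ((St ρ e).inv_mem h2)) ((St ρ e).inv_mem h4)⟩ : St ρ e) =
          ⟨b * a * b⁻¹, h2⟩ * ⟨b * n * b⁻¹, h4⟩ * (⟨b * a * b⁻¹, h2⟩ : St ρ e)⁻¹ *
            (⟨b * n * b⁻¹, h4⟩ : St ρ e)⁻¹ := rfl
      rw [h8, map_mul, map_mul, map_mul, h6, map_inv, map_inv]
      group
    rw [hcore, Subgroup.mem_bot] at h1
    have h2 : a * n = (a * n * a⁻¹ * n⁻¹) * (n * a) := by group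
    rw [h2, h1, one_mul]
  have hZA : Z ≤ (up U).normalCore := by
    intro z hz b
    have h1 : b * z * b⁻¹ ∈ Z := hZn.conj_mem z hz b
    exact mem_up.2 ⟨hZS h1, D.hZU (hZL _ h1)⟩
  have hCidx : C.index ≤ d0 * δ := by
    rw [← Subgroup.relIndex_mul_index hCZ, mul_comm d0 δ]
    exact Nat.mul_le_mul D.idx1 D.idx0
  have hcoreC : ∀ X : Subgroup (Lg ρ e), X.Normal →
      (up C).normalCore.relIndex (up X).normalCore ≤ C.relIndex X ^ k := by
    intro X hX
    have h1 := relIndex_core_le (St ρ e) (up C) (up X) (up_conj hCn) (up_conj hX)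
    rwa [relIndex_up] at h1
  refine ⟨(up U).normalCore, (up C).normalCore, N, d0, δ, m, Subgroup.normalCore_normal _,
    Subgroup.normalCore_normal _, Subgroup.normalCore_mono (up_mono D.hUC), hZA, hcomm, D.hN,
    D.hd0, D.hδ, D.hm, ?_, ?_, D.hNm, ?_, ?_⟩
  · rw [hblk.card_eq hirr, D.card, ← pow_mul]
  · have h1 := relIndex_core_le (St ρ e) (up U) (up C) (up_conj hUn) (up_conj hCn)
    rw [relIndex_up] at h1
    exact le_trans h1 (Nat.pow_le_pow_left D.idx2 _)
  · have h1 : (up C).normalCore ≤ (St ρ e).normalCore :=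
      Subgroup.normalCore_mono (up_le C)
    rw [← Subgroup.relIndex_mul_index h1, mul_comm]
    have h2 := relIndex_core_le_three hsol (St ρ e) ⊤
    rw [Subgroup.relIndex_top_right] at h2
    have h3 := hcoreC ⊤ inferInstance
    rw [up_top, Subgroup.relIndex_top_right] at h3
    exact Nat.mul_le_mul h2 (le_trans h3 (Nat.pow_le_pow_left hCidx _))
  · intro hp
    -- `φ` is injective on `Z`
    have hinjZ : ∀ z ∈ Z, ∀ hz : z ∈ St ρ e, phi' ρ e ⟨z, hz⟩ = 1 → z = 1 := by
      intro z hz hzS h1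
      by_contra hz1
      -- then `Z` is in the kernel
      have h2 : Z ≤ up (⊥ : Subgroup (Lg ρ e)) := by
        have h3 : Subgroup.zpowers z = Z := by
          have h4 : Subgroup.zpowers z ≤ Z := by rwa [Subgroup.zpowers_le]
          have hfZ : Finite Z := inferInstance
          have h5 : Nat.card (Subgroup.zpowers z) ∣ Nat.card Z := Subgroup.card_dvd_of_le h4
          rcases (Nat.dvd_prime hp).1 h5 with h6 | h6
          · exact absurd (Subgroup.zpowers_eq_bot.1 (Subgroup.card_eq_one.1 h6)) hz1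
          · exact Subgroup.eq_of_le_of_card_ge h4 h6.ge
        rw [← h3, Subgroup.zpowers_le, mem_up]
        exact ⟨hzS, h1⟩
      have h3 : Z ≤ (up (⊥ : Subgroup (Lg ρ e))).normalCore := Subgroup.normal_le_normalCore.2 h2
      rw [hcore] at h3
      exact hz1 (Subgroup.mem_bot.1 (h3 hz))
    have hcardZ : Nat.card ZL = Nat.card Z := by
      let f : Z → ZL := fun z => ⟨phi' ρ e ⟨z, hZS z.2⟩, hZL z z.2⟩
      symm
      apply Nat.card_congr (Equiv.ofBijective f ⟨?_, ?_⟩)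
      · intro a b hab
        have h1 : phi' ρ e ⟨a, hZS a.2⟩ = phi' ρ e ⟨b, hZS b.2⟩ := congrArg Subtype.val hab
        have h2 : (a : H)⁻¹ * b ∈ Z := Z.mul_mem (Z.inv_mem a.2) b.2
        have h3 := hinjZ ((a : H)⁻¹ * b) h2 (hZS h2) (by
          have : (⟨(a : H)⁻¹ * b, hZS h2⟩ : St ρ e) = (⟨a, hZS a.2⟩ : St ρ e)⁻¹ * ⟨b, hZS b.2⟩ := rfl
          rw [this, map_mul, map_inv, h1, inv_mul_cancel])
        apply Subtype.ext
        exact inv_mul_eq_one.1 h3
      · rintro ⟨_, s, hs, rfl⟩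
        exact ⟨⟨s, hs⟩, rfl⟩
    have hCent : up (Subgroup.centralizer (ZL : Set (Lg ρ e))) ≤
        Subgroup.centralizer (Z : Set H) := by
      intro s hs
      obtain ⟨hsS, h1⟩ := mem_up.1 hs
      rw [Subgroup.mem_centralizer_iff]
      intro z hz
      have hzZ : z ∈ Z := hz
      have h2 := Subgroup.mem_centralizer_iff.1 h1 _ (hZL z hzZ)
      have h3 : z⁻¹ * (s * z * s⁻¹) ∈ Z := Z.mul_mem (Z.inv_mem hzZ) (hZn.conj_mem z hzZ s)
      have h4 := hinjZ _ h3 (hZS h3) (by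
        have : (⟨z⁻¹ * (s * z * s⁻¹), hZS h3⟩ : St ρ e) =
          (⟨z, hZS hzZ⟩ : St ρ e)⁻¹ * (⟨s, hsS⟩ * ⟨z, hZS hzZ⟩ * (⟨s, hsS⟩ : St ρ e)⁻¹) := rfl
        rw [this, map_mul, map_mul, map_mul, map_inv, map_inv, ← h2]
        group)
      have h5 := inv_mul_eq_one.1 h4
      conv_lhs => rw [h5]
      group
    refine ⟨?_, ?_, ?_⟩
    · rw [← hcardZ]
      exact D.dvd
    · refine le_trans (Subgroup.index_antitone hCent) ?_
      rw [← Subgroup.relIndex_mul_index (up_le (Subgroup.centralizer (ZL : Set (Lg ρ e)))),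
        mul_comm]
      have h1 := relIndex_up (Subgroup.centralizer (ZL : Set (Lg ρ e))) ⊤
      rw [up_top, Subgroup.relIndex_top_right] at h1
      rw [h1]
      exact Nat.mul_le_mul le_rfl D.idx0
    · set X : Subgroup H := (St ρ e).normalCore ⊓ Subgroup.centralizer (Z : Set H) with hX
      have hN1X : (up C).normalCore ≤ X := by
        refine le_inf (Subgroup.normalCore_mono (up_le C)) ?_
        intro n hn
        rw [Subgroup.mem_centralizer_iff]
        intro z hz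
        exact hcomm z (hZA hz) n hn
      have hXC : X ≤ (up (Subgroup.centralizer (ZL : Set (Lg ρ e)))).normalCore := by
        intro x hx b
        obtain ⟨hx1, hx2⟩ := Subgroup.mem_inf.1 hx
        have h1 : b * x * b⁻¹ ∈ St ρ e := hx1 b
        have hn : (Subgroup.centralizer (Z : Set H)).Normal := Subgroup.normal_centralizer
        have h2 : b * x * b⁻¹ ∈ Subgroup.centralizer (Z : Set H) := hn.conj_mem x hx2 b
        rw [mem_up]
        refine ⟨h1, ?_⟩
        rw [Subgroup.mem_centralizer_iff]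
        rintro _ ⟨z, hz, rfl⟩
        have h3 := Subgroup.mem_centralizer_iff.1 h2 z hz
        rw [← map_mul, ← map_mul]
        congr 1
        exact Subtype.ext h3
      rw [← Subgroup.relIndex_mul_relIndex _ X _ hN1X inf_le_right, mul_comm]
      refine Nat.mul_le_mul ?_ ?_
      · rw [hX, Subgroup.inf_relIndex_right]
        exact relIndex_core_le_three hsol _ _
      · have h1 := hcoreC (Subgroup.centralizer (ZL : Set (Lg ρ e))) Subgroup.normal_centralizer
        have h2 := Subgroup.relIndex_le_of_le_right (H := (up C).normalCore) hXC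
          Subgroup.FiniteIndex.index_ne_zero
        exact le_trans h2 (le_trans h1 (Nat.pow_le_pow_left D.idx1 _))

end Cfsg.Agent.H674.KM
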