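import Cfsg.Agent.H674.KM.BlockMin

/-!
# The field generated by a normal commutative subgroup
-/

set_option autoImplicit false

namespace Cfsg.Agent.H674.KM

open Module

universe u v w

variable {F : Type u} [Field F] {S : Type v} [Group S] {W : Type w} [AddCommGroup W] [Module F W]

theorem finite_end [Finite W] : Finite (End F W) := DFunLike.finite _

theorem exists_field [Finite W] [Nontrivial W] (σ : Representation F S W) (hqp : QP σ)
    (B : Subgroup S) (hBn : B.Normal) (hB : ∀ a ∈ B, ∀ b ∈ B, σ a * σ b = σ b * σ a) :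
    ∃ (K : Type w) (_ : Field K) (_ : Algebra F K) (_ : Finite K) (j : K →ₐ[F] End F W),
      Function.Injective j ∧
        ∀ x, x ∈ Algebra.adjoin F (σ '' (B : Set S)) ↔ ∃ k, j k = x := by
  set R := Algebra.adjoin F (σ '' (B : Set S)) with hR
  have hfin : Finite (End F W) := finite_end
  have hfield : IsField R := by
    refine ⟨⟨0, 1, ?_⟩, ?_, ?_⟩
    · intro h
      have := congrArg Subtype.val h
      exact zero_ne_one this
    · intro x y
      exact Subtype.ext (adjoin_comm σ B hB x.2 y.2)
    · intro x hx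
      have hx0 : (x : End F W) ≠ 0 := fun h => hx (Subtype.ext h)
      have hu := hqp B hBn hB x x.2 hx0
      obtain ⟨n, hn, hxn⟩ := exists_pow_idem (x : End F W)
      have h1 : (x : End F W) ^ n = 1 := by
        have hun : IsUnit ((x : End F W) ^ n) := hu.pow n
        exact hun.mul_left_cancel (by rw [hxn, mul_one])
      refine ⟨x ^ (n - 1), ?_⟩
      apply Subtype.ext
      show (x : End F W) * (x : End F W) ^ (n - 1) = 1
      rw [← pow_succ', Nat.sub_add_cancel hn, h1]
  refine ⟨R, hfield.toField, (inferInstance : Algebra F R), inferInstance, R.val,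
    Subtype.val_injective, ?_⟩
  intro x
  constructor
  · intro hx
    exact ⟨⟨x, hx⟩, rfl⟩
  · rintro ⟨k, rfl⟩
    exact k.2

/-- conjugation as an algebra homomorphism -/
noncomputable def cjAlg (σ : Representation F S W) (s : S) : End F W →ₐ[F] End F W where
  toFun := cj σ s
  map_one' := by rw [cj, mul_one, rho_mul_inv]
  map_mul' x y := cj_mul σ s x y
  map_zero' := cj_zero σ s
  map_add' x y := by simp only [cj, mul_add, add_mul]
  commutes' r := by rw [cj, ← Algebra.commutes, mul_assoc, rho_mul_inv, mul_one]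

theorem cjAlg_apply (σ : Representation F S W) (s : S) (x : End F W) : cjAlg σ s x = cj σ s x :=
  rfl

/-- the conjugation action on the field `K` -/
theorem exists_theta (σ : Representation F S W) (B : Subgroup S) [B.Normal] {K : Type w} [Field K]
    [Algebra F K] (j : K →ₐ[F] End F W) (hj : Function.Injective j)
    (hR : ∀ x, x ∈ Algebra.adjoin F (σ '' (B : Set S)) ↔ ∃ k, j k = x) :
    ∃ θ : S → (K →ₐ[F] K), ∀ s k, j (θ s k) = cj σ s (j k) := by
  have h1 : ∀ s k, ((cjAlg σ s).comp j) k ∈ j.range := by
    intro s k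
    have h2 : j k ∈ Algebra.adjoin F (σ '' (B : Set S)) := (hR _).2 ⟨k, rfl⟩
    have h3 := cj_mem_adjoin σ B s h2
    obtain ⟨k', hk'⟩ := (hR _).1 h3
    exact ⟨k', hk'⟩
  refine ⟨fun s => ((AlgEquiv.ofInjective j hj).symm : j.range →ₐ[F] K).comp
    (((cjAlg σ s).comp j).codRestrict j.range (h1 s)), fun s k => ?_⟩
  have h4 : j ((AlgEquiv.ofInjective j hj).symm
      (((cjAlg σ s).comp j).codRestrict j.range (h1 s) k)) =
      (((cjAlg σ s).comp j).codRestrict j.range (h1 s) k : End F W) := by
    have := (AlgEquiv.ofInjective j hj).apply_symm_apply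
      (((cjAlg σ s).comp j).codRestrict j.range (h1 s) k)
    exact congrArg Subtype.val this
  exact h4

theorem index_le_of_map {G : Type*} [Group G] (H : Subgroup G) {X : Type*} [Finite X] (f : G → X)
    (h : ∀ a b, f a = f b → a⁻¹ * b ∈ H) : H.index ≤ Nat.card X := by
  apply Nat.card_le_card_of_injective (fun q : G ⧸ H => f q.out)
  intro q q' hq
  have h1 : q.out⁻¹ * q'.out ∈ H := h _ _ hq
  rw [← QuotientGroup.eq] at h1
  simpa using h1

theorem relIndex_le_of_map {G : Type*} [Group G] (H K : Subgroup G) {X : Type*} [Finite X]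
    (f : K → X) (h : ∀ a b : K, f a = f b → (a : G)⁻¹ * b ∈ H) : H.relIndex K ≤ Nat.card X := by
  apply index_le_of_map (H.subgroupOf K) f
  intro a b hab
  exact h a b hab

/-- **the field part** of the structure of a quasi-primitive linear group -/
theorem field_part [Finite F] [Finite W] [Nontrivial W] (σ : Representation F S W)
    (hinj : Function.Injective σ) (hqp : QP σ) (Z U : Subgroup S) (hUn : U.Normal)
    (hZU : Z ≤ U) (hU : ∀ a ∈ U, ∀ b ∈ U, a * b = b * a) :
    ∃ (K : Type w) (_ : Field K) (_ : Algebra F K) (_ : Finite K) (j : K →ₐ[F] End F W)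
      (d0 δ m : ℕ), Function.Injective j ∧ (∀ u ∈ U, ∃ k, j k = σ u) ∧
      (∀ k, ∀ c ∈ Subgroup.centralizer (U : Set S), j k * σ c = σ c * j k) ∧
      0 < d0 ∧ 0 < δ ∧ 0 < m ∧ Nat.card W = Nat.card F ^ (d0 * δ * m) ∧
      Nat.card Z ∣ Nat.card F ^ d0 - 1 ∧ (Subgroup.centralizer (Z : Set S)).index ≤ d0 ∧
      (Subgroup.centralizer (U : Set S)).relIndex (Subgroup.centralizer (Z : Set S)) ≤ δ ∧
      m = @finrank K W _ _ (Module.compHom W j.toRingHom) := by
  have hU' : ∀ a ∈ U, ∀ b ∈ U, σ a * σ b = σ b * σ a := by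
    intro a ha b hb
    rw [← map_mul, hU a ha b hb, map_mul]
  obtain ⟨K, _, _, _, j, hj, hR⟩ := exists_field σ hqp U hUn hU'
  obtain ⟨θ, hθ⟩ := exists_theta σ U j hj hR
  have hUK : ∀ u ∈ U, ∃ k, j k = σ u := fun u hu =>
    (hR _).1 (Algebra.subset_adjoin ⟨u, hu, rfl⟩)
  let K0 : IntermediateField F K := IntermediateField.adjoin F {k | ∃ z ∈ Z, j k = σ z}
  have hgen : ∀ z ∈ Z, ∃ k ∈ K0, j k = σ z := by
    intro z hz
    obtain ⟨k, hk⟩ := hUK z (hZU hz)
    exact ⟨k, IntermediateField.subset_adjoin F _ ⟨z, hz, hk⟩, hk⟩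
  have : Module.Finite F K := Module.Finite.of_finite
  have : Module.Finite K0 K := Module.Finite.of_finite
  let : Module K W := Module.compHom W j.toRingHom
  have : Module.Finite K W := Module.Finite.of_finite
  have hKW : Nat.card W = Nat.card K ^ finrank K W := Module.natCard_eq_pow_finrank
  have hFK : Nat.card K = Nat.card F ^ finrank F K := Module.natCard_eq_pow_finrank
  have hFK0 : Nat.card K0 = Nat.card F ^ finrank F K0 := Module.natCard_eq_pow_finrank
  refine ⟨K, inferInstance, inferInstance, inferInstance, j, finrank F K0, finrank K0 K,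
    finrank K W, hj, hUK, ?_, finrank_pos, finrank_pos, finrank_pos, ?_, ?_, ?_, ?_, rfl⟩
  · intro k c hc
    have h1 : j k ∈ Algebra.adjoin F (σ '' (U : Set S)) := (hR _).2 ⟨k, rfl⟩
    have h2 : Commute (σ c) (j k) := by
      apply Algebra.commute_of_mem_adjoin_of_forall_mem_commute h1
      rintro _ ⟨u, hu, rfl⟩
      have h3 : u * c = c * u := Subgroup.mem_centralizer_iff.1 hc u hu
      show σ c * σ u = σ u * σ c
      rw [← map_mul, ← map_mul, h3]
    exact h2.symm.eq
  · rw [hKW, hFK, ← pow_mul, Module.finrank_mul_finrank F K0 K]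
  · -- `Z` embeds in the units of `K0`
    have hz : ∀ z : Z, ∃ k : K0, j k = σ (z : S) := by
      intro z
      obtain ⟨k, hk, hk'⟩ := hgen z z.2
      exact ⟨⟨k, hk⟩, hk'⟩
    choose g hg using hz
    have hjK : Function.Injective (fun k : K0 => j (k : K)) :=
      fun a b h => Subtype.ext (hj h)
    let gh : Z →* K0 :=
      { toFun := g
        map_one' := by
          apply hjK
          show j (g 1) = j ((1 : K0) : K)
          rw [hg]
          simp
        map_mul' := by
          intro a b
          apply hjK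
          show j (g (a * b)) = j ((g a * g b : K0) : K)
          rw [hg]
          simp [hg] }
    have hginj : Function.Injective gh.toHomUnits := by
      intro a b h
      have h1 : g a = g b := congrArg Units.val h
      have h2 : σ (a : S) = σ (b : S) := by rw [← hg, ← hg, h1]
      exact Subtype.ext (hinj h2)
    have h3 := Subgroup.card_dvd_of_injective gh.toHomUnits hginj
    rwa [Nat.card_units, hFK0] at h3
  · -- the action on `K0`
    refine le_trans (index_le_of_map _ (fun s => (θ s).comp K0.val) ?_)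
      (card_algHom_le_finrank F K0 K)
    intro a b hab
    rw [Subgroup.mem_centralizer_iff]
    intro z hz
    obtain ⟨k, hk, hk'⟩ := hgen z hz
    have h1 : θ a k = θ b k := congrArg (fun f : K0 →ₐ[F] K => f ⟨k, hk⟩) hab
    have h2 : cj σ a (σ z) = cj σ b (σ z) := by rw [← hk', ← hθ, ← hθ, h1]
    have h3 : a * z * a⁻¹ = b * z * b⁻¹ := by
      apply hinj
      simpa [cj] using h2
    have h4 : z = a⁻¹ * (b * z * b⁻¹) * a := by rw [← h3]; group
    calc z * (a⁻¹ * b) = (a⁻¹ * (b * z * b⁻¹) * a) * (a⁻¹ * b) := by rw [← h4]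
      _ = a⁻¹ * b * z := by group
  · -- the action of the centraliser of `Z` on `K` over `K0`
    have hfix : ∀ c ∈ Subgroup.centralizer (Z : Set S), ∀ k : K0, θ c k = k := by
      intro c hc
      have h1 : K0 ≤ IntermediateField.adjoin F {k | θ c k = k} := by
        apply IntermediateField.adjoin.mono
        rintro k ⟨z, hz, hk⟩
        show θ c k = k
        apply hj
        rw [hθ, hk]
        have h3 : z * c = c * z := Subgroup.mem_centralizer_iff.1 hc z hz
        show σ c * σ z * σ c⁻¹ = σ z
        rw [← map_mul, ← map_mul, ← h3, mul_assoc, mul_inv_cancel, mul_one]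
      have h5 : ∀ k ∈ IntermediateField.adjoin F {k | θ c k = k}, θ c k = k := by
        intro k hk
        induction hk using IntermediateField.adjoin_induction with
        | mem x hx => exact hx
        | algebraMap x => exact (θ c).commutes x
        | add x y _ _ hx hy => rw [map_add, hx, hy]
        | inv x _ hx => rw [map_inv₀, hx]
        | mul x y _ _ hx hy => rw [map_mul, hx, hy]
      intro k
      exact h5 k (h1 k.2)
    let Θ : Subgroup.centralizer (Z : Set S) → (K →ₐ[K0] K) := fun c =>
      { (θ (c : S)).toRingHom with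
        commutes' := fun k => hfix c c.2 k }
    refine le_trans (relIndex_le_of_map _ _ Θ ?_) (card_algHom_le_finrank K0 K K)
    intro a b hab
    rw [Subgroup.mem_centralizer_iff]
    intro u hu
    obtain ⟨k, hk⟩ := hUK u hu
    have h1 : θ a k = θ b k := congrArg (fun f : K →ₐ[K0] K => f k) hab
    have h2 : cj σ (a : S) (σ u) = cj σ (b : S) (σ u) := by rw [← hk, ← hθ, ← hθ, h1]
    have h3 : (a : S) * u * (a : S)⁻¹ = b * u * (b : S)⁻¹ := by
      apply hinj
      simpa [cj] using h2
    have h4 : u = (a : S)⁻¹ * (b * u * (b : S)⁻¹) * a := by rw [← h3]; group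
    calc u * ((a : S)⁻¹ * b) = ((a : S)⁻¹ * (b * u * (b : S)⁻¹) * a) * ((a : S)⁻¹ * b) := by
          rw [← h4]
      _ = (a : S)⁻¹ * b * u := by group

end Cfsg.Agent.H674.KM
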