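import Mathlib

/-!
# Numerical lemmas
-/

set_option autoImplicit false

namespace Cfsg.Agent.H674.KM

/-- `c(N)` -/
def cc (N : ℕ) : ℕ := N ^ (1 + Nat.log 2 N)

theorem cc_mono {a b : ℕ} (ha : 0 < a) (h : a ≤ b) : cc a ≤ cc b := by
  unfold cc
  calc a ^ (1 + Nat.log 2 a) ≤ b ^ (1 + Nat.log 2 a) := Nat.pow_le_pow_left h _
    _ ≤ b ^ (1 + Nat.log 2 b) :=
      Nat.pow_le_pow_right (by omega) (Nat.add_le_add_left (Nat.log_mono_right h) 1)

theorem sq_le_four_pow (D : ℕ) (hD : 0 < D) : D ^ 2 ≤ 4 ^ (D - 1) := by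
  obtain ⟨n, rfl⟩ := Nat.exists_eq_succ_of_ne_zero hD.ne'
  rw [Nat.succ_eq_add_one, Nat.add_sub_cancel]
  induction n with
  | zero => norm_num
  | succ n ih =>
    rw [pow_succ 4]
    have := ih (by omega)
    nlinarith

theorem exp_aux (u : ℕ) (hu : 5 ≤ u) : (2 * u + 2) * (2 * u + 2) ≤ 6 * (2 ^ u - 2) := by
  induction u, hu using Nat.le_induction with
  | base => norm_num
  | succ n hn ih =>
    have h1 : 2 ≤ 2 ^ n := by
      calc 2 = 2 ^ 1 := rfl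
        _ ≤ 2 ^ n := Nat.pow_le_pow_right (by norm_num) (by omega)
    obtain ⟨t, ht⟩ := Nat.exists_eq_add_of_le h1
    rw [pow_succ, ht]
    rw [ht] at ih
    have h2 : 2 + t - 2 = t := by omega
    rw [h2] at ih
    have h3 : (2 + t) * 2 - 2 = 2 + 2 * t := by omega
    rw [h3]
    nlinarith

theorem cc_large (m : ℕ) (hm : 32 ≤ m) : cc (m ^ 2) ≤ 64 ^ (m - 2) := by
  unfold cc
  set u := Nat.log 2 m with hu
  have hu5 : 5 ≤ u := by
    rw [hu]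
    exact (Nat.le_log_iff_pow_le (by norm_num) (by omega)).2 (by norm_num; exact hm)
  have h1 : 2 ^ u ≤ m := Nat.pow_log_le_self 2 (by omega)
  have h2 : m < 2 ^ (u + 1) := Nat.lt_pow_succ_log_self (by norm_num) m
  have h3 : m ^ 2 < 2 ^ (2 * u + 2) := by
    have : 2 ^ (2 * u + 2) = (2 ^ (u + 1)) ^ 2 := by rw [← pow_mul]; ring_nf
    rw [this]
    exact Nat.pow_lt_pow_left h2 (by norm_num)
  have h4 : Nat.log 2 (m ^ 2) < 2 * u + 2 := Nat.log_lt_of_lt_pow (by positivity) h3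
  calc (m ^ 2) ^ (1 + Nat.log 2 (m ^ 2)) ≤ (2 ^ (2 * u + 2)) ^ (1 + Nat.log 2 (m ^ 2)) :=
        Nat.pow_le_pow_left h3.le _
    _ ≤ (2 ^ (2 * u + 2)) ^ (2 * u + 2) := Nat.pow_le_pow_right (by positivity) (by omega)
    _ = 2 ^ ((2 * u + 2) * (2 * u + 2)) := by rw [← pow_mul]
    _ ≤ 2 ^ (6 * (2 ^ u - 2)) := Nat.pow_le_pow_right (by norm_num) (exp_aux u hu5)
    _ ≤ 2 ^ (6 * (m - 2)) := Nat.pow_le_pow_right (by norm_num) (by omega)
    _ = 64 ^ (m - 2) := by rw [pow_mul]; norm_num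

theorem small_A : ∀ m : ℕ, m < 32 → 1 ≤ m → (m ^ 2) ^ (1 + Nat.log2 (m ^ 2)) ≤ 102 ^ (m - 1) := by
  decide +kernel

theorem small_B : ∀ m : ℕ, m < 32 → 2 ≤ m →
    (m ^ 2) ^ (1 + Nat.log2 (m ^ 2)) ≤ 105 * 100 ^ (m - 2) := by
  decide +kernel

theorem cc_A (m : ℕ) (hm : 0 < m) : cc (m ^ 2) ≤ 102 ^ (m - 1) := by
  by_cases h : m < 32
  · have := small_A m h hm
    rwa [Nat.log2_eq_log_two] at this
  · refine le_trans (cc_large m (by omega)) ?_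
    calc 64 ^ (m - 2) ≤ 102 ^ (m - 2) := Nat.pow_le_pow_left (by norm_num) _
      _ ≤ 102 ^ (m - 1) := Nat.pow_le_pow_right (by norm_num) (by omega)

theorem cc_B (m : ℕ) (hm : 2 ≤ m) : cc (m ^ 2) ≤ 105 * 100 ^ (m - 2) := by
  by_cases h : m < 32
  · have := small_B m h hm
    rwa [Nat.log2_eq_log_two] at this
  · refine le_trans (cc_large m (by omega)) ?_
    calc 64 ^ (m - 2) ≤ 100 ^ (m - 2) := Nat.pow_le_pow_left (by norm_num) _
      _ ≤ 105 * 100 ^ (m - 2) := Nat.le_mul_of_pos_left _ (by norm_num)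

/-- `(γ)` -/
theorem gamma (q δ m N : ℕ) (hq : 102 ≤ q) (hδ : 0 < δ) (hm : 0 < m) (hN : 0 < N)
    (hNm : N ≤ m ^ 2) : q * (δ ^ 2 * cc N) ≤ q ^ (δ * m) := by
  have h1 : cc N ≤ q ^ (m - 1) := le_trans (cc_mono hN hNm) (le_trans (cc_A m hm)
    (Nat.pow_le_pow_left hq _))
  have h2 : δ ^ 2 ≤ q ^ ((δ - 1) * m) := by
    refine le_trans (sq_le_four_pow δ hδ) ?_
    calc 4 ^ (δ - 1) ≤ q ^ (δ - 1) := Nat.pow_le_pow_left (by omega) _
      _ ≤ q ^ ((δ - 1) * m) := Nat.pow_le_pow_right (by omega) (Nat.le_mul_of_pos_right _ hm)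
  obtain ⟨a, rfl⟩ := Nat.exists_eq_succ_of_ne_zero hδ.ne'
  obtain ⟨b, rfl⟩ := Nat.exists_eq_succ_of_ne_zero hm.ne'
  calc q * ((a + 1) ^ 2 * cc N) ≤ q * (q ^ ((a + 1 - 1) * (b + 1)) * q ^ (b + 1 - 1)) :=
        Nat.mul_le_mul_left _ (Nat.mul_le_mul h2 h1)
    _ = q ^ (a.succ * b.succ) := by
        rw [Nat.add_sub_cancel, Nat.add_sub_cancel, ← pow_add, ← pow_succ']
        congr 1
        simp only [Nat.succ_eq_add_one]
        ring

/-- `(α)` -/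
theorem alpha (p D m N : ℕ) (hp : 101 ≤ p) (hD : 0 < D) (hm : 0 < m) (hN : 0 < N)
    (hNm : N ≤ m ^ 2) (h2 : 2 ≤ D * m) : p ^ 2 * (D ^ 2 * cc N) ≤ 105 * p ^ (D * m) := by
  have hD2 := sq_le_four_pow D hD
  rcases Nat.lt_or_ge m 2 with hm2 | hm2
  · have hm1 : m = 1 := by omega
    subst hm1
    have hN1 : N = 1 := by
      rw [one_pow] at hNm
      omega
    subst hN1
    have hc : cc 1 = 1 := by simp [cc]
    rw [hc, mul_one, mul_one]
    rw [mul_one] at h2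
    obtain ⟨a, rfl⟩ := Nat.exists_eq_add_of_le h2
    have h3 : (2 + a) ^ 2 ≤ 4 * p ^ a := by
      refine le_trans hD2 ?_
      have h4 : 2 + a - 1 = a + 1 := by omega
      rw [h4, pow_succ, mul_comm]
      exact Nat.mul_le_mul_left _ (Nat.pow_le_pow_left (by omega) _)
    calc p ^ 2 * (2 + a) ^ 2 ≤ p ^ 2 * (4 * p ^ a) := Nat.mul_le_mul_left _ h3
      _ = 4 * p ^ (2 + a) := by rw [pow_add]; ring
      _ ≤ 105 * p ^ (2 + a) := Nat.mul_le_mul_right _ (by norm_num)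
  · have h1 : cc N ≤ 105 * p ^ (m - 2) := by
      refine le_trans (cc_mono hN hNm) (le_trans (cc_B m hm2) ?_)
      exact Nat.mul_le_mul_left _ (Nat.pow_le_pow_left (by omega) _)
    have h3 : D ^ 2 ≤ p ^ ((D - 1) * m) := by
      refine le_trans hD2 ?_
      calc 4 ^ (D - 1) ≤ p ^ (D - 1) := Nat.pow_le_pow_left (by omega) _
        _ ≤ p ^ ((D - 1) * m) := Nat.pow_le_pow_right (by omega) (Nat.le_mul_of_pos_right _ hm)
    obtain ⟨a, rfl⟩ := Nat.exists_eq_succ_of_ne_zero hD.ne'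
    obtain ⟨b, rfl⟩ := Nat.exists_eq_add_of_le hm2
    calc p ^ 2 * (a.succ ^ 2 * cc N)
        ≤ p ^ 2 * (p ^ ((a.succ - 1) * (2 + b)) * (105 * p ^ (2 + b - 2))) :=
          Nat.mul_le_mul_left _ (Nat.mul_le_mul h3 h1)
      _ = 105 * p ^ (a.succ * (2 + b)) := by
          have h5 : a.succ - 1 = a := rfl
          have h6 : 2 + b - 2 = b := by omega
          have h7 : a.succ * (2 + b) = 2 + a * (2 + b) + b := by
            rw [Nat.succ_eq_add_one]; ring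
          rw [h5, h6, h7, pow_add, pow_add]
          ring

/-- numerics of case (i) -/
theorem num_i (p D m N k x y : ℕ) (hp : 101 ≤ p) (hD : 0 < D) (hm : 0 < m) (hN : 0 < N)
    (hk : 0 < k) (hNm : N ≤ m ^ 2) (h2 : 2 ≤ D * m * k)
    (h : p ^ (D * m * k) ≤ x * y * (9 ^ (k - 1) * (D ^ 2) ^ k * cc N ^ k)) :
    4 * p ^ 2 ≤ 105 * (x + y) ^ 2 := by
  have hxy : 4 * (x * y) ≤ (x + y) ^ 2 := by
    have : (4 * (x * y) : ℤ) ≤ (x + y) ^ 2 := by nlinarith [sq_nonneg ((x : ℤ) - y)]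
    exact_mod_cast this
  suffices hs : p ^ 2 ≤ 105 * (x * y) by
    calc 4 * p ^ 2 ≤ 4 * (105 * (x * y)) := Nat.mul_le_mul_left _ hs
      _ = 105 * (4 * (x * y)) := by ring
      _ ≤ 105 * (x + y) ^ 2 := Nat.mul_le_mul_left _ hxy
  set P := p ^ (D * m) with hP
  set Y := D ^ 2 * cc N with hY
  have hYpos : 0 < Y := by
    rw [hY, cc]
    positivity
  have h' : P ^ k ≤ x * y * (9 ^ (k - 1) * Y ^ k) := by
    rw [hP, ← pow_mul, hY, mul_pow, ← mul_assoc (9 ^ (k - 1))]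
    exact h
  rcases Nat.lt_or_ge k 2 with hk2 | hk2
  · have hk1 : k = 1 := by omega
    subst hk1
    simp only [pow_one, Nat.sub_self, pow_zero, one_mul, mul_one] at h' h2
    have h3 := alpha p D m N hp hD hm hN hNm h2
    have h4 : p ^ 2 * Y ≤ 105 * (x * y) * Y := by
      calc p ^ 2 * Y ≤ 105 * P := h3
        _ ≤ 105 * (x * y * Y) := Nat.mul_le_mul_left _ h'
        _ = _ := by ring
    exact Nat.le_of_mul_le_mul_right h4 hYpos
  · -- `101 p Y ≤ 105 P`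
    have hb : 101 * (p * Y) ≤ 105 * P := by
      rcases Nat.lt_or_ge (D * m) 2 with h4 | h4
      · have hD1 : D = 1 := by nlinarith
        have hm1 : m = 1 := by nlinarith
        subst hD1
        subst hm1
        have hN1 : N = 1 := by
          rw [one_pow] at hNm
          omega
        subst hN1
        have hc : cc 1 = 1 := by simp [cc]
        rw [hP, hY, hc]
        norm_num
        omega
      · have h3 := alpha p D m N hp hD hm hN hNm h4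
        calc 101 * (p * Y) ≤ p * (p * Y) := Nat.mul_le_mul_right _ hp
          _ = p ^ 2 * Y := by ring
          _ ≤ 105 * P := h3
    have h9 : 9 * Y ≤ P := by nlinarith
    obtain ⟨l, rfl⟩ := Nat.exists_eq_add_of_le hk2
    have h5 : P ^ 2 * (9 ^ l * Y ^ l) ≤ (x * y * 9 * Y ^ 2) * (9 ^ l * Y ^ l) := by
      calc P ^ 2 * (9 ^ l * Y ^ l) = P ^ 2 * (9 * Y) ^ l := by rw [mul_pow 9 Y]
        _ ≤ P ^ 2 * P ^ l := Nat.mul_le_mul_left _ (Nat.pow_le_pow_left h9 _)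
        _ = P ^ (2 + l) := by rw [pow_add]
        _ ≤ x * y * (9 ^ (2 + l - 1) * Y ^ (2 + l)) := h'
        _ = _ := by
          have h6 : 2 + l - 1 = l + 1 := by omega
          rw [h6, pow_succ, pow_add]
          ring
    have h6 : P ^ 2 ≤ x * y * 9 * Y ^ 2 := Nat.le_of_mul_le_mul_right h5 (by positivity)
    have h7 : (101 * (p * Y)) ^ 2 ≤ (105 * P) ^ 2 := Nat.pow_le_pow_left hb 2
    have h8 : p ^ 2 * (10201 * Y ^ 2) ≤ (105 * (x * y)) * (10201 * Y ^ 2) := by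
      calc p ^ 2 * (10201 * Y ^ 2) = (101 * (p * Y)) ^ 2 := by ring
        _ ≤ (105 * P) ^ 2 := h7
        _ = 11025 * P ^ 2 := by ring
        _ ≤ 11025 * (x * y * 9 * Y ^ 2) := Nat.mul_le_mul_left _ h6
        _ = (99225 * (x * y)) * Y ^ 2 := by ring
        _ ≤ (105 * 10201 * (x * y)) * Y ^ 2 :=
          Nat.mul_le_mul_right _ (Nat.mul_le_mul_right _ (by norm_num))
        _ = _ := by ring
    exact Nat.le_of_mul_le_mul_right h8 (by positivity)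

theorem four_mul_le (x y : ℕ) : 4 * (x * y) ≤ (x + y) ^ 2 := by
  have : (4 * (x * y) : ℤ) ≤ (x + y) ^ 2 := by nlinarith [sq_nonneg ((x : ℤ) - y)]
  exact_mod_cast this

theorem aux_k (q l : ℕ) (hq : 102 ≤ q) : (2 + l) ^ 2 * 9 ^ l ≤ 4 * q ^ l := by
  induction l with
  | zero => norm_num
  | succ l ih =>
    calc (2 + (l + 1)) ^ 2 * 9 ^ (l + 1) = ((3 + l) ^ 2 * 9) * 9 ^ l := by rw [pow_succ 9]; ring
      _ ≤ (102 * (2 + l) ^ 2) * 9 ^ l :=
        Nat.mul_le_mul_right _ (by nlinarith [Nat.zero_le (l ^ 2), Nat.zero_le l])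
      _ = 102 * ((2 + l) ^ 2 * 9 ^ l) := by ring
      _ ≤ q * (4 * q ^ l) := Nat.mul_le_mul hq ih
      _ = 4 * q ^ (l + 1) := by rw [pow_succ]; ring

/-- numerics of case (ii), at least two blocks -/
theorem num_ii_two (q k j d0 x y : ℕ) (hq : 102 ≤ q) (hk : 2 ≤ k) (hj : j ≤ k * d0)
    (h : q ^ k ≤ x * y * (j ^ 2 * 9 ^ (k - 1))) : q ≤ 3 * d0 * (x + y) := by
  obtain ⟨l, rfl⟩ := Nat.exists_eq_add_of_le hk
  have h1 := four_mul_le x y
  have h2 := aux_k q l hq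
  have h3 : q ^ 2 * (4 * q ^ l) ≤ (3 * d0 * (x + y)) ^ 2 * (4 * q ^ l) := by
    calc q ^ 2 * (4 * q ^ l) = 4 * q ^ (2 + l) := by rw [pow_add]; ring
      _ ≤ 4 * (x * y * (j ^ 2 * 9 ^ (2 + l - 1))) := Nat.mul_le_mul_left _ h
      _ ≤ 4 * (x * y * (((2 + l) * d0) ^ 2 * 9 ^ (2 + l - 1))) :=
        Nat.mul_le_mul_left _ (Nat.mul_le_mul_left _ (Nat.mul_le_mul_right _
          (Nat.pow_le_pow_left hj 2)))
      _ = (4 * (x * y)) * (9 * d0 ^ 2 * ((2 + l) ^ 2 * 9 ^ l)) := by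
        have h6 : 2 + l - 1 = l + 1 := by omega
        rw [h6, pow_succ]
        ring
      _ ≤ (x + y) ^ 2 * (9 * d0 ^ 2 * (4 * q ^ l)) :=
        Nat.mul_le_mul h1 (Nat.mul_le_mul_left _ h2)
      _ = _ := by ring
  have h4 : q ^ 2 ≤ (3 * d0 * (x + y)) ^ 2 := Nat.le_of_mul_le_mul_right h3 (by positivity)
  exact (Nat.pow_le_pow_iff_left (by norm_num)).1 h4

theorem aux_j (T j : ℕ) (hT : 3 ≤ T) (hj : T ≤ j) : 2 ^ T * j ^ 2 ≤ 2 ^ j * T ^ 2 := by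
  induction j, hj using Nat.le_induction with
  | base => exact le_rfl
  | succ j hj ih =>
    calc 2 ^ T * (j + 1) ^ 2 ≤ 2 ^ T * (2 * j ^ 2) := Nat.mul_le_mul_left _ (by nlinarith)
      _ = 2 * (2 ^ T * j ^ 2) := by ring
      _ ≤ 2 * (2 ^ j * T ^ 2) := Nat.mul_le_mul_left _ ih
      _ = 2 ^ (j + 1) * T ^ 2 := by rw [pow_succ]; ring

/-- numerics of case (ii), one block -/
theorem num_ii_one (p q j s x y : ℕ) (hs : 6 ≤ s) (hps : p < 2 ^ (s + 1)) (hj : 3 * s + 1 ≤ j)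
    (hq : 2 ^ j ≤ q) (h : q ≤ x * y * j ^ 2) : p ≤ 3 * s * (x + y) := by
  have h1 := four_mul_le x y
  have h2 := aux_j (3 * s + 1) j (by omega) hj
  have hjpos : 0 < j := by omega
  have h3 : (4 * 2 ^ (3 * s + 1)) * j ^ 2 ≤ ((x + y) ^ 2 * (3 * s + 1) ^ 2) * j ^ 2 := by
    calc (4 * 2 ^ (3 * s + 1)) * j ^ 2 = 4 * (2 ^ (3 * s + 1) * j ^ 2) := by ring
      _ ≤ 4 * (2 ^ j * (3 * s + 1) ^ 2) := Nat.mul_le_mul_left _ h2
      _ ≤ 4 * ((x * y * j ^ 2) * (3 * s + 1) ^ 2) :=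
        Nat.mul_le_mul_left _ (Nat.mul_le_mul_right _ (le_trans hq h))
      _ = (4 * (x * y)) * (j ^ 2 * (3 * s + 1) ^ 2) := by ring
      _ ≤ (x + y) ^ 2 * (j ^ 2 * (3 * s + 1) ^ 2) := Nat.mul_le_mul_right _ h1
      _ = _ := by ring
  have h4 : 4 * 2 ^ (3 * s + 1) ≤ (x + y) ^ 2 * (3 * s + 1) ^ 2 :=
    Nat.le_of_mul_le_mul_right h3 (by positivity)
  have h5 : 36 * (3 * s + 1) ^ 2 ≤ 361 * s ^ 2 := by nlinarith
  have h6 : 361 * p ^ 2 ≤ 361 * (3 * s * (x + y)) ^ 2 := by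
    have h7 : p ^ 2 ≤ (2 ^ (s + 1)) ^ 2 := Nat.pow_le_pow_left hps.le 2
    have h8 : (2 ^ (s + 1)) ^ 2 = 4 * 4 ^ s := by
      rw [← pow_mul, show (s + 1) * 2 = 2 + 2 * s by ring, pow_add, pow_mul]; norm_num
    have h9 : 4 * 2 ^ (3 * s + 1) = 8 * 8 ^ s := by
      rw [pow_succ, pow_mul]; norm_num; ring
    have h10 : 4 ^ s ≤ 8 ^ s := Nat.pow_le_pow_left (by norm_num) s
    calc 361 * p ^ 2 ≤ 361 * (4 * 8 ^ s) := by
          refine Nat.mul_le_mul_left _ (le_trans h7 ?_)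
          rw [h8]
          exact Nat.mul_le_mul_left _ h10
      _ ≤ 9 * (36 * (8 * 8 ^ s)) := by nlinarith [Nat.zero_le (8 ^ s)]
      _ ≤ 9 * (36 * ((x + y) ^ 2 * (3 * s + 1) ^ 2)) := by
          rw [← h9]
          exact Nat.mul_le_mul_left _ (Nat.mul_le_mul_left _ h4)
      _ = 9 * ((x + y) ^ 2 * (36 * (3 * s + 1) ^ 2)) := by ring
      _ ≤ 9 * ((x + y) ^ 2 * (361 * s ^ 2)) :=
          Nat.mul_le_mul_left _ (Nat.mul_le_mul_left _ h5)
      _ = _ := by ring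
  have h7 : p ^ 2 ≤ (3 * s * (x + y)) ^ 2 := Nat.le_of_mul_le_mul_left h6 (by norm_num)
  exact (Nat.pow_le_pow_iff_left (by norm_num)).1 h7

/-- the bound -/
noncomputable def Bd (p : ℕ) : ℝ := (p : ℝ) / (3 * Real.logb 2 p)

theorem logb_pos {p : ℕ} (hp : 2 ≤ p) : 0 < Real.logb 2 p :=
  Real.logb_pos (by norm_num) (by exact_mod_cast hp)

theorem Bd_le_iff {p : ℕ} (hp : 2 ≤ p) (n : ℝ) : Bd p ≤ n ↔ (p : ℝ) ≤ n * (3 * Real.logb 2 p) := by
  rw [Bd, div_le_iff₀ (mul_pos (by norm_num) (logb_pos hp))]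

theorem le_logb {p s : ℕ} (hp : 2 ≤ p) (h : 2 ^ s ≤ p) : (s : ℝ) ≤ Real.logb 2 p := by
  rw [Real.le_logb_iff_rpow_le (by norm_num) (by positivity), Real.rpow_natCast]
  exact_mod_cast h

theorem Bd_le_of_log {p s n : ℕ} (hp : 2 ≤ p) (hs : 2 ^ s ≤ p) (h : p ≤ 3 * s * n) :
    Bd p ≤ n := by
  rw [Bd_le_iff hp]
  have h1 := le_logb hp hs
  have h2 : (p : ℝ) ≤ 3 * s * n := by exact_mod_cast h
  have h3 : (0 : ℝ) ≤ n := Nat.cast_nonneg n
  nlinarith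

theorem Bd_le_pow {p n : ℕ} (hp : 2 ≤ p) (h : 2 ^ p ≤ p ^ (3 * n)) : Bd p ≤ n := by
  rw [Bd_le_iff hp]
  have h1 : (p : ℝ) ≤ Real.logb 2 ((p : ℝ) ^ (3 * n)) := by
    rw [Real.le_logb_iff_rpow_le (by norm_num) (by positivity), Real.rpow_natCast]
    exact_mod_cast h
  rw [Real.logb_pow] at h1
  push_cast at h1
  linarith

theorem Bd_le_self {p : ℕ} (hp : 2 ≤ p) : Bd p ≤ p := by
  rw [Bd_le_iff hp]
  have h1 : (1 : ℝ) ≤ Real.logb 2 p := by
    have := le_logb (s := 1) hp (by simpa using hp)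
    simpa using this
  have h2 : (0 : ℝ) ≤ p := Nat.cast_nonneg p
  nlinarith

/-- monotonicity -/
theorem Bd_mono {p q : ℕ} (hp : 3 ≤ p) (hpq : p ≤ q) : Bd p ≤ Bd q := by
  have hp' : (3 : ℝ) ≤ p := by exact_mod_cast hp
  have hpq' : (p : ℝ) ≤ q := by exact_mod_cast hpq
  have he : Real.exp 1 ≤ 3 := by
    have := Real.exp_one_lt_d9
    linarith
  have h1 := Real.log_div_self_antitoneOn (a := (p : ℝ)) (by
    show Real.exp 1 ≤ p; linarith) (b := (q : ℝ)) (by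
    show Real.exp 1 ≤ q; linarith) hpq'
  have hlp : 0 < Real.log p := Real.log_pos (by linarith)
  have hlq : 0 < Real.log q := Real.log_pos (by linarith)
  have hl2 : 0 < Real.log 2 := Real.log_pos (by norm_num)
  have h2 : (p : ℝ) / Real.log p ≤ (q : ℝ) / Real.log q := by
    rw [div_le_div_iff₀ hlp hlq]
    rw [div_le_div_iff₀ (by linarith) (by linarith)] at h1
    linarith
  have h3 : ∀ x : ℝ, x / (3 * Real.logb 2 x) = (x / Real.log x) * (Real.log 2 / 3) := by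
    intro x
    rw [Real.logb]
    field_simp
  rw [Bd, Bd, h3, h3]
  exact mul_le_mul_of_nonneg_right h2 (by positivity)

theorem Bd_le_of_q {p q d0 n : ℕ} (hp : 3 ≤ p) (hpq : p ≤ q) (hq : 2 ^ d0 ≤ q)
    (h : q ≤ 3 * d0 * n) : Bd p ≤ n := by
  refine le_trans (Bd_mono hp hpq) ?_
  exact Bd_le_of_log (by omega) hq h

theorem Bd_le_one {p : ℕ} (hp : 2 ≤ p) (hp9 : p ≤ 9) : Bd p ≤ 1 := by
  have : Bd p ≤ ((1 : ℕ) : ℝ) := by
    apply Bd_le_pow hp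
    interval_cases p <;> norm_num
  simpa using this

theorem Bd_le_five {p : ℕ} (hp : 2 ≤ p) (hp9 : p ≤ 99) : Bd p ≤ 5 := by
  have : Bd p ≤ ((5 : ℕ) : ℝ) := by
    apply Bd_le_pow hp
    interval_cases p <;> norm_num
  simpa using this

/-- end of case (i) -/
theorem Bd_le_of_sq {p n : ℕ} (hp : 101 ≤ p) (hn : 0 < n) (h : 4 * p ^ 2 ≤ 105 * n ^ 2) :
    Bd p ≤ ((n - 1 : ℕ) : ℝ) := by
  apply Bd_le_of_log (s := 6) (by omega) (by omega)
  by_contra hcon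
  push Not at hcon
  have h1 : 9 * n < p := by omega
  nlinarith

end Cfsg.Agent.H674.KM
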