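import Cfsg.Agent.H674.KM.Act
import Cfsg.Agent.H674.KM.Engine
import Cfsg.Agent.H674.KM.Count
import Cfsg.Agent.H674.KM.Num

/-!
# `k(G) ≥ p / (3 log₂ p)` for solvable `G` with `p ∣ |G : F(G)|`
-/

set_option autoImplicit false

namespace Cfsg.Agent.H674.KM

open Module

universe u

/-- **case (i)**: a minimal normal `p`-subgroup of order `≥ p ^ 2` -/
theorem case_i {Q : Type u} [Group Q] [Finite Q] (hsol : Group.IsSolvable Q) {p : ℕ}
    (hp : p.Prime) (hp101 : 101 ≤ p) (Z : Subgroup Q) [hZn : Z.Normal]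
    (hab : ∀ a ∈ Z, ∀ b ∈ Z, a * b = b * a) (hexp : ∀ a ∈ Z, a ^ p = 1) (hne : Z ≠ ⊥)
    (hmin : ∀ N : Subgroup Q, N.Normal → N ≤ Z → N = ⊥ ∨ N = Z) (hcard : Nat.card Z ≠ p) :
    Bd p ≤ Nat.card (ConjClasses Q) := by
  have : Fact p.Prime := ⟨hp⟩
  obtain ⟨E, _, _, _, _, e, ρ, hinj, hirr, -, -⟩ := exists_act p Z hab hexp hne hmin
  have hCn : (Subgroup.centralizer (Z : Set Q)).Normal := Subgroup.normal_centralizer
  let J := Q ⧸ Subgroup.centralizer (Z : Set Q)
  have hsolJ : Group.IsSolvable J :=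
    Group.isSolvable_of_surjective (f := QuotientGroup.mk' (Subgroup.centralizer (Z : Set Q)))
      (QuotientGroup.mk'_surjective _)
  obtain ⟨f, hf⟩ := exists_isMin ρ
  obtain ⟨A, N1, N, d0, δ, m, hAn, hN1n, hAN, -, hcomm, hN, hd0, hδ, hm, hcV, hidx, hNm, hN1, -⟩ :=
    engine hsolJ hinj hirr hf ⊥ inferInstance (by
      intro a ha b hb
      rw [Subgroup.mem_bot.1 ha, Subgroup.mem_bot.1 hb]) bot_le
  set k := (St ρ f).index with hk
  have hkpos : 0 < k := Nat.pos_of_ne_zero Subgroup.FiniteIndex.index_ne_zero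
  rw [Nat.card_zmod] at hcV
  have hcZ : Nat.card E = Nat.card Z := Nat.card_congr e
  rw [hcZ] at hcV
  -- counting
  have hx : Nat.card Z ≤ ncl Z * Nat.card J := by
    refine card_le_ncl_mul Z (Subgroup.centralizer (Z : Set Q)) ?_
    intro a ha b hb
    exact Subgroup.mem_centralizer_iff.1 hb a ha
  have hy : Nat.card A ≤ ncl A * N1.index := card_le_ncl_mul A N1 hcomm
  have hJ : Nat.card N1 * N1.index = Nat.card J := Subgroup.card_mul_index N1
  have hN1c : Nat.card A * A.relIndex N1 = Nat.card N1 := card_mul_relIndex hAN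
  have hcount : ncl Z + Nat.card (ConjClasses J) ≤ Nat.card (ConjClasses Q) + 1 := by
    refine ncl_add_le (QuotientGroup.mk' (Subgroup.centralizer (Z : Set Q)))
      (QuotientGroup.mk'_surjective _) Z ?_
    rw [QuotientGroup.ker_mk']
    intro z hz
    rw [Subgroup.mem_centralizer_iff]
    intro y hy
    exact hab y hy z hz
  have hA : ncl A ≤ Nat.card (ConjClasses J) := ncl_le A
  have hApos : 0 < Nat.card A := Nat.card_pos
  have hkey : p ^ (d0 * δ * m * k) ≤
      ncl Z * ncl A * (9 ^ (k - 1) * ((d0 * δ) ^ 2) ^ k * cc N ^ k) := by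
    rw [← hcV]
    have h1 : N1.index * N1.index ≤ 9 ^ (k - 1) * ((d0 * δ) ^ 2) ^ k := by
      refine le_trans (Nat.mul_le_mul hN1 hN1) (le_of_eq ?_)
      have h9 : (9 : ℕ) ^ (k - 1) = 3 ^ (k - 1) * 3 ^ (k - 1) := by
              rw [← mul_pow]; norm_num
      rw [h9, ← pow_mul, mul_comm 2 k, pow_mul, sq]
      ring
    calc Nat.card Z ≤ ncl Z * (Nat.card N1 * N1.index) := by rw [hJ]; exact hx
      _ = ncl Z * (Nat.card A * A.relIndex N1 * N1.index) := by rw [hN1c]
      _ ≤ ncl Z * (ncl A * N1.index * A.relIndex N1 * N1.index) :=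
        Nat.mul_le_mul_left _ (Nat.mul_le_mul_right _ (Nat.mul_le_mul_right _ hy))
      _ = ncl Z * ncl A * ((N1.index * N1.index) * A.relIndex N1) := by ring
      _ ≤ _ := Nat.mul_le_mul_left _ (Nat.mul_le_mul h1 hidx)
  have h2 : 2 ≤ d0 * δ * m * k := by
    have hpos : 0 < d0 * δ * m * k := by positivity
    by_contra hcon
    have h1 : d0 * δ * m * k = 1 := by omega
    rw [h1, pow_one] at hcV
    exact hcard hcV
  have hfin := num_i p (d0 * δ) m N k (ncl Z) (ncl A) hp101 (by positivity) hm hN hkpos hNm h2 hkey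
  have hZ2 := two_le_ncl Z hne
  refine le_trans (Bd_le_of_sq hp101 (by omega) hfin) ?_
  have : ncl Z + ncl A - 1 ≤ Nat.card (ConjClasses Q) := by omega
  exact_mod_cast this

/-- **case (ii)**: a normal subgroup of order `p` -/
theorem case_ii {G : Type u} [Group G] [Finite G] (hsol : Group.IsSolvable G) {p r : ℕ}
    (hp : p.Prime) (hr : r.Prime) (hp101 : 101 ≤ p) (V : Subgroup G) [hVn : V.Normal]
    (hab : ∀ a ∈ V, ∀ b ∈ V, a * b = b * a) (hexp : ∀ a ∈ V, a ^ r = 1) (hne : V ≠ ⊥)
    (hmin : ∀ N : Subgroup G, N.Normal → N ≤ V → N = ⊥ ∨ N = V)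
    (Z : Subgroup (G ⧸ Subgroup.centralizer (V : Set G))) (hZn : Z.Normal)
    (hZ : Nat.card Z = p) :
    Bd p ≤ Nat.card (ConjClasses G) := by
  have : Fact r.Prime := ⟨hr⟩
  have : Fact p.Prime := ⟨hp⟩
  obtain ⟨E, _, _, _, _, e, ρ, hinj, hirr, hadd, hρ⟩ := exists_act r V hab hexp hne hmin
  have hCn : (Subgroup.centralizer (V : Set G)).Normal := Subgroup.normal_centralizer
  set Q := G ⧸ Subgroup.centralizer (V : Set G) with hQdef
  have hsolQ : Group.IsSolvable Q :=
    Group.isSolvable_of_surjective (f := QuotientGroup.mk' (Subgroup.centralizer (V : Set G)))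
      (QuotientGroup.mk'_surjective _)
  have hZab : ∀ a ∈ Z, ∀ b ∈ Z, a * b = b * a := by
    intro a ha b hb
    have hcyc : IsCyclic Z := isCyclic_of_prime_card hZ
    have := hcyc.commGroup.mul_comm ⟨a, ha⟩ ⟨b, hb⟩
    exact congrArg Subtype.val this
  obtain ⟨f, hf⟩ := exists_isMin ρ
  have hkG : Nat.card (ConjClasses Q) ≤ Nat.card (ConjClasses G) :=
    classes_le_of_surj (QuotientGroup.mk' _) (QuotientGroup.mk'_surjective _)
  have hk1 : ncl V + Nat.card (ConjClasses Q) ≤ Nat.card (ConjClasses G) + 1 := by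
    refine ncl_add_le (QuotientGroup.mk' (Subgroup.centralizer (V : Set G)))
      (QuotientGroup.mk'_surjective _) V ?_
    rw [QuotientGroup.ker_mk']
    intro z hz
    rw [Subgroup.mem_centralizer_iff]
    intro y hy
    exact hab y hy z hz
  have hkpos : 0 < (St ρ f).index := Nat.pos_of_ne_zero Subgroup.FiniteIndex.index_ne_zero
  -- the number of blocks bounds the number of classes
  have hwt : (St ρ f).index + 1 ≤ ncl V := by
    apply ncl_ge_of_invariant V (fun v => IsBlk.wt ρ f (e.symm v))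
    · intro a b hab'
      obtain ⟨g, hg⟩ := isConj_iff.1 hab'
      have h1 : b = e (ρ (QuotientGroup.mk g) (e.symm a)) := by
        apply Subtype.ext
        rw [hρ, Equiv.apply_symm_apply, hg]
      show IsBlk.wt ρ f (e.symm a) = IsBlk.wt ρ f (e.symm b)
      rw [h1, Equiv.symm_apply_apply, IsBlk.wt_rho]
    · intro i hi
      obtain ⟨v, hv⟩ := hf.toIsBlk.exists_wt i hi
      exact ⟨e v, by simpa using hv⟩
  have hp2 : 2 ≤ p := hp.two_le
  by_cases hZS : Z ≤ St ρ f
  swap
  · -- `Z` moves a block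
    have h1 : (St ρ f).relIndex Z = p := by
      have h2 : (St ρ f).relIndex Z ∣ Nat.card Z := Subgroup.relIndex_dvd_card _ _
      rw [hZ] at h2
      rcases (Nat.dvd_prime hp).1 h2 with h3 | h3
      · exact absurd (Subgroup.relIndex_eq_one.1 h3) hZS
      · exact h3
    have h2 : (St ρ f).relIndex Z ≤ (St ρ f).relIndex ⊤ :=
      Subgroup.relIndex_le_of_le_right le_top Subgroup.FiniteIndex.index_ne_zero
    rw [h1, Subgroup.relIndex_top_right] at h2
    refine le_trans (Bd_le_self hp2) ?_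
    have h3 : p ≤ Nat.card (ConjClasses G) := by
      have := classes_pos (G := Q)
      omega
    exact_mod_cast h3
  obtain ⟨A, N1, N, d0, δ, m, hAn, hN1n, hAN, hZA, hcomm, hN, hd0, hδ, hm, hcV, hidx, hNm, hN1,
    hprime⟩ := engine hsolQ hinj hirr hf Z hZn hZab hZS
  obtain ⟨hdvd, hj, hN1r⟩ := hprime (by rw [hZ]; exact hp)
  set k := (St ρ f).index with hk
  rw [Nat.card_zmod] at hcV hdvd
  rw [hZ] at hdvd
  set q := r ^ d0 with hq
  have hq1 : 1 < q := Nat.one_lt_pow hd0.ne' hr.one_lt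
  have hpq : p + 1 ≤ q := by
    have := Nat.le_of_dvd (by omega) hdvd
    omega
  have hq102 : 102 ≤ q := by omega
  have h2q : 2 ^ d0 ≤ q := Nat.pow_le_pow_left hr.two_le _
  set CZ := Subgroup.centralizer (Z : Set Q) with hCZ
  have hCZn : CZ.Normal := Subgroup.normal_centralizer
  set j := CZ.index with hjdef
  have hACZ : A ≤ CZ := by
    intro a ha
    rw [hCZ, Subgroup.mem_centralizer_iff]
    intro z hz
    exact hcomm z (hZA hz) a (hAN ha)
  have hN1CZ : N1 ≤ CZ := by
    intro a ha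
    rw [hCZ, Subgroup.mem_centralizer_iff]
    intro z hz
    exact hcomm z (hZA hz) a ha
  have hclZ : p ≤ ncl Z * j := by
    have h1 := card_le_ncl_mul Z CZ (by
      intro a ha b hb
      exact Subgroup.mem_centralizer_iff.1 hb a ha)
    rwa [hZ] at h1
  have hnclZ : ncl Z ≤ Nat.card (ConjClasses G) := le_trans (ncl_le Z) hkG
  rcases Nat.lt_or_ge j 2 with hj2 | hj2
  · -- `Z` is central
    have h1 : p ≤ ncl Z := by
      calc p ≤ ncl Z * j := hclZ
        _ ≤ ncl Z * 1 := Nat.mul_le_mul_left _ (by omega)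
        _ = ncl Z := mul_one _
    refine le_trans (Bd_le_self hp2) ?_
    exact_mod_cast le_trans h1 hnclZ
  -- classes outside `CZ`
  have hk2 : ncl A + 1 ≤ Nat.card (ConjClasses Q) := by
    have h1 := ncl_add_le (QuotientGroup.mk' CZ) (QuotientGroup.mk'_surjective _) A (by
      rw [QuotientGroup.ker_mk']
      exact hACZ)
    have h2 : 2 ≤ Nat.card (ConjClasses (Q ⧸ CZ)) := by
      have h3 : (⊤ : Subgroup (Q ⧸ CZ)) ≠ ⊥ := by
        intro h
        have h4 : Nat.card (Q ⧸ CZ) = 1 := by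
          rw [← Subgroup.card_top, h, Subgroup.card_bot]
        have h5 : j = 1 := h4
        omega
      exact le_trans (two_le_ncl _ h3) (ncl_le _)
    omega
  have hsum : ncl V + ncl A ≤ Nat.card (ConjClasses G) := by omega
  -- counting
  have hx : Nat.card V ≤ ncl V * Nat.card Q := by
    refine card_le_ncl_mul V (Subgroup.centralizer (V : Set G)) ?_
    intro a ha b hb
    exact Subgroup.mem_centralizer_iff.1 hb a ha
  have hy : Nat.card A ≤ ncl A * N1.index := card_le_ncl_mul A N1 hcomm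
  have hJ : Nat.card N1 * N1.index = Nat.card Q := Subgroup.card_mul_index N1
  have hN1c : Nat.card A * A.relIndex N1 = Nat.card N1 := card_mul_relIndex hAN
  have hcE : Nat.card E = Nat.card V := Nat.card_congr e
  have hh : N1.index ≤ j * (3 ^ (k - 1) * δ ^ k) := by
    rw [← Subgroup.relIndex_mul_index hN1CZ, mul_comm]
    exact Nat.mul_le_mul_left _ hN1r
  have hkey : q ^ k ≤ ncl V * ncl A * (j ^ 2 * 9 ^ (k - 1)) := by
    have hYpos : 0 < δ ^ 2 * cc N := by
      rw [cc]; positivity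
    have hg := gamma q δ m N hq102 hδ hm hN hNm
    have h1 : q ^ k * (δ ^ 2 * cc N) ^ k ≤
        (ncl V * ncl A * (j ^ 2 * 9 ^ (k - 1))) * (δ ^ 2 * cc N) ^ k := by
      calc q ^ k * (δ ^ 2 * cc N) ^ k = (q * (δ ^ 2 * cc N)) ^ k := by rw [mul_pow q]
        _ ≤ (q ^ (δ * m)) ^ k := Nat.pow_le_pow_left hg _
        _ = Nat.card V := by
          rw [← hcE, hcV, hq, ← pow_mul, ← pow_mul]
          congr 1
          ring
        _ ≤ ncl V * (Nat.card N1 * N1.index) := by rw [hJ]; exact hx
        _ = ncl V * (Nat.card A * A.relIndex N1 * N1.index) := by rw [hN1c]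
        _ ≤ ncl V * (ncl A * N1.index * A.relIndex N1 * N1.index) :=
          Nat.mul_le_mul_left _ (Nat.mul_le_mul_right _ (Nat.mul_le_mul_right _ hy))
        _ = ncl V * ncl A * ((N1.index * N1.index) * A.relIndex N1) := by ring
        _ ≤ ncl V * ncl A * (((j * (3 ^ (k - 1) * δ ^ k)) * (j * (3 ^ (k - 1) * δ ^ k))) *
            cc N ^ k) :=
          Nat.mul_le_mul_left _ (Nat.mul_le_mul (Nat.mul_le_mul hh hh) hidx)
        _ = _ := by
          have h9 : (9 : ℕ) ^ (k - 1) = 3 ^ (k - 1) * 3 ^ (k - 1) := by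
              rw [← mul_pow]; norm_num
          rw [h9, mul_pow (δ ^ 2), ← pow_mul, mul_comm 2 k, pow_mul δ k 2]
          ring
    exact Nat.le_of_mul_le_mul_right h1 (by positivity)
  rcases Nat.lt_or_ge k 2 with hk2' | hk2'
  · have hk1' : k = 1 := by omega
    rw [hk1'] at hkey hj
    simp only [pow_one, Nat.sub_self, pow_zero, mul_one, one_mul] at hkey hj
    by_cases hjl : (j : ℝ) ≤ 3 * Real.logb 2 p
    · -- few conjugates
      have h1 : Bd p ≤ ncl Z := by
        rw [Bd_le_iff hp2]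
        have h2 : (p : ℝ) ≤ ncl Z * j := by exact_mod_cast hclZ
        have h3 : (0 : ℝ) ≤ ncl Z := Nat.cast_nonneg _
        nlinarith
      refine le_trans h1 ?_
      exact_mod_cast hnclZ
    · push Not at hjl
      set s := Nat.log 2 p with hs
      have hs6 : 6 ≤ s := (Nat.le_log_iff_pow_le (by norm_num) (by omega)).2 (by norm_num; omega)
      have hps : p < 2 ^ (s + 1) := Nat.lt_pow_succ_log_self (by norm_num) p
      have hsp : 2 ^ s ≤ p := Nat.pow_log_le_self 2 (by omega)
      have h1 := le_logb hp2 hsp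
      have h2 : 3 * s + 1 ≤ j := by
        have h3 : ((3 * s : ℕ) : ℝ) < j := by
          push_cast
          linarith
        have h4 : 3 * s < j := by exact_mod_cast h3
        omega
      have h2j : 2 ^ j ≤ q := le_trans (Nat.pow_le_pow_right (by norm_num) hj) h2q
      have h3 := num_ii_one p q j s (ncl V) (ncl A) hs6 hps h2 h2j hkey
      refine le_trans (Bd_le_of_log hp2 hsp h3) ?_
      exact_mod_cast hsum
  · have h1 := num_ii_two q k j d0 (ncl V) (ncl A) hq102 hk2' hj hkey
    refine le_trans (Bd_le_of_q (by omega) (by omega : p ≤ q) h2q h1) ?_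
    exact_mod_cast hsum

/-- a nilpotent normal subgroup of order divisible by `p` gives a minimal normal `p`-subgroup -/
theorem exists_Z {Q : Type u} [Group Q] [Finite Q] (hsol : Group.IsSolvable Q) {p : ℕ}
    (hp : p.Prime) (hpF : p ∣ Nat.card (Cfsg.fittingSubgroup Q)) :
    ∃ Z : Subgroup Q, Z.Normal ∧ (∀ a ∈ Z, ∀ b ∈ Z, a * b = b * a) ∧ (∀ a ∈ Z, a ^ p = 1) ∧
      Z ≠ ⊥ ∧ ∀ N : Subgroup Q, N.Normal → N ≤ Z → N = ⊥ ∨ N = Z := by
  have : Fact p.Prime := ⟨hp⟩
  have hFn : (Cfsg.fittingSubgroup Q).Normal := Lib.Cores.fittingSubgroup_normal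
  have hFnil : Group.IsNilpotent (Cfsg.fittingSubgroup Q) := Lib.Cores.fittingSubgroup_isNilpotent
  obtain ⟨P⟩ : Nonempty (Sylow p (Cfsg.fittingSubgroup Q)) := inferInstance
  have hPn : (P : Subgroup (Cfsg.fittingSubgroup Q)).Normal :=
    ((Group.isNilpotent_of_finite_tfae (G := Cfsg.fittingSubgroup Q)).out 0 3 :
      Group.IsNilpotent (Cfsg.fittingSubgroup Q) ↔ ∀ (p : ℕ) (_ : Fact p.Prime)
        (P : Sylow p (Cfsg.fittingSubgroup Q)),
          (P : Subgroup (Cfsg.fittingSubgroup Q)).Normal).1 hFnil p ‹_› P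
  have hPc : (P : Subgroup (Cfsg.fittingSubgroup Q)).Characteristic :=
    Sylow.characteristic_of_normal P hPn
  let K : Subgroup Q := (P : Subgroup (Cfsg.fittingSubgroup Q)).map
    (Cfsg.fittingSubgroup Q).subtype
  have hKn : K.Normal := by
    have := ConjAct.normal_of_characteristic_of_normal (H := Cfsg.fittingSubgroup Q)
      (K := (P : Subgroup (Cfsg.fittingSubgroup Q)))
    exact this
  have hKp : IsPGroup p K := P.2.map _
  have hK : K ≠ ⊥ := by
    intro h
    rw [Subgroup.map_eq_bot_iff_of_injective _ (Subgroup.subtype_injective _)] at h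
    exact P.ne_bot_of_dvd_card hpF h
  obtain ⟨Z, hZn, hZ, hZK, hmin⟩ := exists_minimal K hKn hK
  obtain ⟨r, hr, hab, hexp⟩ := exists_prime_of_minimal hZn hZ hsol hmin
  have hZp : IsPGroup p Z := hKp.to_le hZK
  have hrp : r = p := by
    obtain ⟨z, hz1⟩ := Subgroup.ne_bot_iff_exists_ne_one.1 hZ
    have h1 : orderOf z ∣ r := orderOf_dvd_of_pow_eq_one (Subtype.ext (hexp z z.2))
    obtain ⟨n, hn⟩ := IsPGroup.iff_orderOf.1 hZp z
    rcases (Nat.dvd_prime hr).1 h1 with h2 | h2
    · exact absurd (orderOf_eq_one_iff.1 h2) hz1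
    · rw [h2] at hn
      exact (Nat.prime_dvd_prime_iff_eq hr hp).1 (hr.dvd_of_dvd_pow (by rw [← hn]))
  subst hrp
  exact ⟨Z, hZn, hab, hexp, hZ, hmin⟩

theorem main (n : ℕ) : ∀ (G : Type u) [Group G] [Finite G], Nat.card G = n →
    Group.IsSolvable G → ∀ p : ℕ, p.Prime → p ∣ (Cfsg.fittingSubgroup G).index →
      Bd p ≤ Nat.card (ConjClasses G) := by
  induction n using Nat.strong_induction_on with
  | _ n ih =>
  intro G _ _ hn hsol p hp hpd
  -- `G` is non-trivial
  have hne : (⊤ : Subgroup G) ≠ ⊥ := by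
    intro h
    have h1 : Cfsg.fittingSubgroup G = ⊤ := by
      rw [eq_top_iff, h]
      exact bot_le
    rw [h1, Subgroup.index_top] at hpd
    exact hp.one_lt.ne' (Nat.dvd_one.1 hpd)
  obtain ⟨V, hVn, hV, -, hmin⟩ := exists_minimal (⊤ : Subgroup G) inferInstance hne
  obtain ⟨r, hr, hab, hexp⟩ := exists_prime_of_minimal hVn hV hsol hmin
  have hV1 : 1 < Nat.card V := by
    have h1 : Nat.card V ≠ 1 := by rw [Ne, Subgroup.card_eq_one]; exact hV
    have h2 : 0 < Nat.card V := Nat.card_pos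
    omega
  have hquot : ∀ K : Subgroup G, V ≤ K → Nat.card (G ⧸ K) < n := by
    intro K hK
    have h1 : Nat.card K * K.index = Nat.card G := Subgroup.card_mul_index K
    have h2 : Nat.card V ≤ Nat.card K := Subgroup.card_le_of_le hK
    have h3 : 0 < K.index := Nat.pos_of_ne_zero Subgroup.FiniteIndex.index_ne_zero
    have h4 : Nat.card (G ⧸ K) = K.index := rfl
    rw [h4, ← hn, ← h1]
    nlinarith
  by_cases hd1 : p ∣ (Cfsg.fittingSubgroup (G ⧸ V)).index
  · have h1 := ih _ (hquot V le_rfl) (G ⧸ V) rfl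
      (Group.isSolvable_of_surjective (f := QuotientGroup.mk' V) (QuotientGroup.mk'_surjective V))
      p hp hd1
    refine le_trans h1 ?_
    exact_mod_cast classes_le_of_surj (QuotientGroup.mk' V) (QuotientGroup.mk'_surjective V)
  have hd2 : p ∣ (Subgroup.centralizer (V : Set G)).index := by
    by_contra hcon
    exact not_dvd_index_fitting hp V hd1 hcon hpd
  have hCn : (Subgroup.centralizer (V : Set G)).Normal := Subgroup.normal_centralizer
  have hVC : V ≤ Subgroup.centralizer (V : Set G) := by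
    intro z hz
    rw [Subgroup.mem_centralizer_iff]
    intro y hy
    exact hab y hy z hz
  have hsolQ : Group.IsSolvable (G ⧸ Subgroup.centralizer (V : Set G)) :=
    Group.isSolvable_of_surjective (f := QuotientGroup.mk' (Subgroup.centralizer (V : Set G)))
      (QuotientGroup.mk'_surjective _)
  have hkG : Nat.card (ConjClasses (G ⧸ Subgroup.centralizer (V : Set G))) ≤
      Nat.card (ConjClasses G) :=
    classes_le_of_surj (QuotientGroup.mk' _) (QuotientGroup.mk'_surjective _)
  have hp2 := hp.two_le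
  rcases Nat.lt_or_ge p 101 with hp101 | hp101
  · -- small primes
    rcases Nat.lt_or_ge p 10 with hp10 | hp10
    · refine le_trans (Bd_le_one hp2 (by omega)) ?_
      exact_mod_cast Nat.succ_le_of_lt classes_pos
    · have hp99 : p ≤ 99 := by
        by_contra hcon
        have h1 : p = 100 := by omega
        rw [h1] at hp
        exact absurd hp (by norm_num)
      refine le_trans (Bd_le_five hp2 hp99) ?_
      have h1 : 6 < Nat.card (G ⧸ Subgroup.centralizer (V : Set G)) := by
        have h2 : 0 < Nat.card (G ⧸ Subgroup.centralizer (V : Set G)) := Nat.card_pos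
        have h3 := Nat.le_of_dvd h2 hd2
        omega
      have h2 := four_le_classes h1
      have h3 := two_le_ncl V hV
      have h4 := ncl_add_le (QuotientGroup.mk' (Subgroup.centralizer (V : Set G)))
        (QuotientGroup.mk'_surjective _) V (by rw [QuotientGroup.ker_mk']; exact hVC)
      have h5 : 5 ≤ Nat.card (ConjClasses G) := by omega
      exact_mod_cast h5
  by_cases hd3 : p ∣ (Cfsg.fittingSubgroup (G ⧸ Subgroup.centralizer (V : Set G))).index
  · have h1 := ih _ (hquot _ hVC) (G ⧸ Subgroup.centralizer (V : Set G)) rfl hsolQ p hp hd3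
    refine le_trans h1 ?_
    exact_mod_cast hkG
  have hd4 : p ∣ Nat.card (Cfsg.fittingSubgroup (G ⧸ Subgroup.centralizer (V : Set G))) := by
    have h1 : Nat.card (Cfsg.fittingSubgroup (G ⧸ Subgroup.centralizer (V : Set G))) *
      (Cfsg.fittingSubgroup (G ⧸ Subgroup.centralizer (V : Set G))).index =
        (Subgroup.centralizer (V : Set G)).index := Subgroup.card_mul_index _
    rw [← h1] at hd2
    exact (hp.dvd_mul.1 hd2).resolve_right hd3
  obtain ⟨Z, hZn, hZab, hZexp, hZ, hZmin⟩ := exists_Z hsolQ hp hd4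
  by_cases hcard : Nat.card Z = p
  · exact case_ii hsol hp hr hp101 V hab hexp hV hmin Z hZn hcard
  · refine le_trans (case_i hsolQ hp hp101 Z hZab hZexp hZ hZmin hcard) ?_
    exact_mod_cast hkG

end Cfsg.Agent.H674.KM
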