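import Cfsg.Agent.H674.KM.Field

/-!
# A solvable group over its maximal abelian normal subgroup
-/

set_option autoImplicit false

namespace Cfsg.Agent.H674.KM

open Module

universe u v w

theorem card_mul_relIndex {X : Type*} [Group X] {A B : Subgroup X} (h : A ≤ B) :
    Nat.card A * A.relIndex B = Nat.card B := by
  have := Subgroup.relIndex_mul_relIndex ⊥ A B bot_le h
  rwa [Subgroup.relIndex_bot_left, Subgroup.relIndex_bot_left] at this

/-- small generating sets -/
theorem exists_gens {X : Type*} [Group X] [Finite X] :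
    ∃ T : Finset X, Subgroup.closure (T : Set X) = ⊤ ∧ 2 ^ T.card ≤ Nat.card X := by
  classical
  have : Fintype X := Fintype.ofFinite X
  let P : Finset X → Prop := fun T => 2 ^ T.card ≤ Nat.card (Subgroup.closure (T : Set X))
  have h0 : P ∅ := by
    show 2 ^ 0 ≤ _
    exact Nat.succ_le_of_lt Nat.card_pos
  obtain ⟨T, hT⟩ := (Set.toFinite {T : Finset X | P T}).exists_maximal ⟨∅, h0⟩
  have hPT : P T := hT.prop
  refine ⟨T, ?_, le_trans hPT (Subgroup.card_le_card_group _)⟩
  by_contra hne
  obtain ⟨x, hx⟩ : ∃ x, x ∉ Subgroup.closure (T : Set X) := by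
    by_contra hcon
    push Not at hcon
    exact hne (eq_top_iff.2 fun x _ => hcon x)
  have hxT : x ∉ T := fun h => hx (Subgroup.subset_closure h)
  have h1 : P (insert x T) := by
    show 2 ^ (insert x T).card ≤ _
    rw [Finset.card_insert_of_notMem hxT, pow_succ]
    have hle : Subgroup.closure (T : Set X) ≤ Subgroup.closure ((insert x T : Finset X) : Set X) :=
      Subgroup.closure_mono (by simp)
    have hxin : x ∈ Subgroup.closure ((insert x T : Finset X) : Set X) :=
      Subgroup.subset_closure (by simp)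
    have h2 : 2 ≤ (Subgroup.closure (T : Set X)).relIndex
        (Subgroup.closure ((insert x T : Finset X) : Set X)) := by
      have h3 : (Subgroup.closure (T : Set X)).relIndex
          (Subgroup.closure ((insert x T : Finset X) : Set X)) ≠ 1 := by
        rw [Ne, Subgroup.relIndex_eq_one]
        intro h
        exact hx (h hxin)
      have h4 : (Subgroup.closure (T : Set X)).relIndex
          (Subgroup.closure ((insert x T : Finset X) : Set X)) ≠ 0 := Subgroup.FiniteIndex.index_ne_zero
      omega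
    rw [← card_mul_relIndex hle]
    exact Nat.mul_le_mul hPT h2
  have h2 : insert x T ≤ T := hT.2 h1 (Finset.subset_insert x T)
  exact hxT (h2 (Finset.mem_insert_self x T))

/-- there are at most `|M|` homomorphisms from `M` to a field -/
theorem card_monoidHom_le (M : Type*) [Monoid M] [Finite M] (K : Type*) [Field K] :
    Finite (M →* K) ∧ Nat.card (M →* K) ≤ Nat.card M := by
  have : Fintype M := Fintype.ofFinite M
  have h := linearIndependent_monoidHom M K
  have hf : Finite (M →* K) := h.finite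
  have : Fintype (M →* K) := Fintype.ofFinite _
  refine ⟨hf, ?_⟩
  have h1 := h.fintype_card_le_finrank
  rw [Module.finrank_fintype_fun_eq_card] at h1
  rwa [Nat.card_eq_fintype_card, Nat.card_eq_fintype_card]

/-- a group of operators permuted up to scalars by many characters -/
theorem dim_bound {K : Type*} [Field K] {W : Type*} [AddCommGroup W] [Module K W]
    [Module.Finite K W] [Nontrivial W] {D : Type*} [Group D] (τ : D →* End K W) {ι : Type*}
    [Fintype ι] (x : ι → D) (χ : ι → D →* K) (hχ : Function.Injective χ)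
    (h : ∀ i y, τ (y * x i * y⁻¹) = χ i y • τ (x i)) : Fintype.card ι ≤ (finrank K W) ^ 2 := by
  have hLI : LinearIndependent K (fun i => τ (x i)) := by
    rw [Fintype.linearIndependent_iff]
    intro g hg i
    have h1 : ∀ y, ∑ i, (g i * χ i y) • τ (x i) = 0 := by
      intro y
      have h2 : ∑ i, (g i * χ i y) • τ (x i) = τ y * (∑ i, g i • τ (x i)) * τ y⁻¹ := by
        rw [Finset.mul_sum, Finset.sum_mul]
        refine Finset.sum_congr rfl fun i _ => ?_
        rw [mul_smul, ← h, map_mul, map_mul, mul_smul_comm, smul_mul_assoc]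
      rw [h2, hg, mul_zero, zero_mul]
    have hLI2 : LinearIndependent K (fun i => (χ i : D → K)) :=
      (linearIndependent_monoidHom D K).comp χ hχ
    rw [Fintype.linearIndependent_iff] at hLI2
    obtain ⟨w', hw'⟩ := exists_ne (0 : W)
    obtain ⟨φ, hφ⟩ : ∃ φ : Module.Dual K W, φ w' ≠ 0 := by
      by_contra hcon
      push Not at hcon
      exact hw' ((Module.forall_dual_apply_eq_zero_iff K w').1 hcon)
    have h3 := hLI2 (fun k => g k * φ (τ (x k) (τ (x i)⁻¹ w'))) (by
      funext y
      have h4 := congrArg (fun f : End K W => φ (f (τ (x i)⁻¹ w'))) (h1 y)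
      simp only [LinearMap.sum_apply, LinearMap.smul_apply, map_sum, map_smul, smul_eq_mul,
        LinearMap.zero_apply, map_zero] at h4
      simp only [Finset.sum_apply, Pi.smul_apply, smul_eq_mul, Pi.zero_apply]
      rw [← h4]
      refine Finset.sum_congr rfl fun k _ => by ring) i
    have h5 : τ (x i) (τ (x i)⁻¹ w') = w' := by
      have : τ (x i) * τ (x i)⁻¹ = 1 := by rw [← map_mul, mul_inv_cancel, map_one]
      exact congrArg (fun f : End K W => f w') this
    simp only [h5] at h3
    exact (mul_eq_zero.1 h3).resolve_right hφ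
  have h1 := hLI.fintype_card_le_finrank
  rwa [Module.finrank_linearMap, ← sq] at h1

/-- the derived series of a subgroup -/
def dser {L : Type*} [Group L] (E : Subgroup L) : ℕ → Subgroup L
  | 0 => E
  | (n + 1) => ⁅dser E n, dser E n⁆

/-- the subgroup `D` -/
theorem exists_D {L : Type*} [Group L] [Finite L] (hsol : Group.IsSolvable L) (U : Subgroup L)
    [hUn : U.Normal] (hmax : ∀ B : Subgroup L, B.Normal → (∀ a ∈ B, ∀ b ∈ B, a * b = b * a) →
      U ≤ B → B ≤ U) (hU : ∀ a ∈ U, ∀ b ∈ U, a * b = b * a) :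
    ∃ D : Subgroup L, D.Normal ∧ U ≤ D ∧ D ≤ Subgroup.centralizer (U : Set L) ∧
      (∀ x ∈ D, ∀ y ∈ D, Commute (x : L ⧸ U) (y : L ⧸ U)) ∧
      Subgroup.centralizer (D : Set L) ≤ U := by
  classical
  let P : Subgroup L → Prop := fun D => D.Normal ∧ U ≤ D ∧
    D ≤ Subgroup.centralizer (U : Set L) ∧ (∀ x ∈ D, ∀ y ∈ D, Commute (x : L ⧸ U) (y : L ⧸ U))
  have h0 : P U := by
    refine ⟨hUn, le_rfl, ?_, ?_⟩
    · intro u hu
      rw [Subgroup.mem_centralizer_iff]
      intro v hv
      exact hU v hv u hu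
    · intro x hx y hy
      rw [(QuotientGroup.eq_one_iff x).2 hx]
      exact Commute.one_left _
  obtain ⟨D, hD⟩ := (Set.toFinite {D : Subgroup L | P D}).exists_maximal ⟨U, h0⟩
  obtain ⟨hDn, hUD, hDC, hDc⟩ : P D := hD.prop
  have hDn' : D.Normal := hDn
  refine ⟨D, hDn, hUD, hDC, hDc, ?_⟩
  set E := Subgroup.centralizer (D : Set L) with hE
  have hEn : E.Normal := Subgroup.normal_centralizer
  have hEC : E ≤ Subgroup.centralizer (U : Set L) := Subgroup.centralizer_le hUD
  -- `D ∩ E = U`
  have hDE : D ⊓ E ≤ U := by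
    apply hmax
    · exact Subgroup.normal_inf_normal D E
    · intro a ha b hb
      exact (Subgroup.mem_centralizer_iff.1 (Subgroup.mem_inf.1 hb).2 a (Subgroup.mem_inf.1 ha).1)
    · refine le_inf hUD ?_
      intro u hu
      rw [hE, Subgroup.mem_centralizer_iff]
      intro d hd
      exact (Subgroup.mem_centralizer_iff.1 (hDC hd) u hu).symm
  by_contra hcon
  set T : ℕ → Subgroup L := dser E with hTdef
  have hT0 : T 0 = E := rfl
  have hTs : ∀ n, T (n + 1) = ⁅T n, T n⁆ := fun n => rfl
  have hTn : ∀ n, (T n).Normal := by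
    intro n
    induction n with
    | zero => exact hEn
    | succ n ih =>
      rw [hTs]
      have := ih
      exact @Subgroup.commutator_normal _ _ (T n) (T n) ih ih
  have hTE : ∀ n, T n ≤ E := by
    intro n
    induction n with
    | zero => exact le_rfl
    | succ n ih =>
      rw [hTs]
      have := hTn n
      exact le_trans (@Subgroup.commutator_le_left _ _ (T n) (T n) (hTn n)) ih
  have hTd : ∀ n, T n ≤ derivedSeries L n := by
    intro n
    induction n with
    | zero => exact le_top
    | succ n ih =>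
      rw [hTs, derivedSeries_succ]
      exact Subgroup.commutator_mono ih ih
  obtain ⟨n, hn⟩ := hsol.solvable
  have hex : ∃ n, T n ≤ U := ⟨n, by
    have := hTd n
    rw [hn] at this
    exact le_trans this bot_le⟩
  have hfind := Nat.find_spec hex
  have hpos : Nat.find hex ≠ 0 := by
    intro h
    rw [h] at hfind
    exact hcon hfind
  obtain ⟨k, hk⟩ := Nat.exists_eq_succ_of_ne_zero hpos
  have hk1 : ¬ T k ≤ U := Nat.find_min hex (by omega)
  rw [hk] at hfind
  have hTk := hTn k
  have hP : P (D ⊔ T k) := by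
    refine ⟨@Subgroup.sup_normal _ _ D (T k) hDn hTk, le_trans hUD le_sup_left,
      sup_le hDC (le_trans (hTE k) hEC), ?_⟩
    intro x hx y hy
    obtain ⟨d, hd, t, ht, rfl⟩ := Subgroup.mem_sup_of_normal_right.1 hx
    obtain ⟨d', hd', t', ht', rfl⟩ := Subgroup.mem_sup_of_normal_right.1 hy
    have hct : ∀ a ∈ D, ∀ b ∈ T k, Commute (a : L ⧸ U) (b : L ⧸ U) := by
      intro a ha b hb
      have h1 : a * b = b * a := Subgroup.mem_centralizer_iff.1 (hTE k hb) a ha
      show (a : L ⧸ U) * b = b * a
      rw [← QuotientGroup.mk_mul, h1, QuotientGroup.mk_mul]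
    have htt : Commute (t : L ⧸ U) (t' : L ⧸ U) := by
      have h1 : t * t' * t⁻¹ * t'⁻¹ ∈ U := hfind (Subgroup.commutator_mem_commutator ht ht')
      rw [← QuotientGroup.eq_one_iff] at h1
      rw [QuotientGroup.mk_mul, QuotientGroup.mk_mul,
        QuotientGroup.mk_mul, QuotientGroup.mk_inv, QuotientGroup.mk_inv] at h1
      have h2 : (t : L ⧸ U) * t' * (t : L ⧸ U)⁻¹ = t' := by
        rwa [mul_inv_eq_one] at h1
      show (t : L ⧸ U) * t' = t' * t
      rw [← mul_inv_eq_iff_eq_mul]
      exact h2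
    rw [QuotientGroup.mk_mul, QuotientGroup.mk_mul]
    exact (((hDc d hd d' hd').mul_right (hct d hd t' ht'))).mul_left
      (((hct d' hd' t ht).symm).mul_right htt)
  have hle : D ⊔ T k ≤ D := hD.2 hP le_sup_left
  apply hk1
  intro t ht
  exact hDE ⟨hle (le_sup_right (a := D) ht), hTE k ht⟩

/-- **the non-abelian part** of the structure of a quasi-primitive linear group -/
theorem struct_part {F : Type u} [Field F] {L : Type v} [Group L] [Finite L]
    (hsol : Group.IsSolvable L) {W : Type w} [AddCommGroup W] [Module F W] [Finite W]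
    [Nontrivial W] (σ : Representation F L W) (hinj : Function.Injective σ) (U : Subgroup L)
    (hUn : U.Normal) (hU : ∀ a ∈ U, ∀ b ∈ U, a * b = b * a)
    (hmax : ∀ B : Subgroup L, B.Normal → (∀ a ∈ B, ∀ b ∈ B, a * b = b * a) → U ≤ B → B ≤ U)
    {K : Type w} [Field K] [Algebra F K] (j : K →ₐ[F] End F W)
    (hj : Function.Injective j) (hUK : ∀ u ∈ U, ∃ k, j k = σ u)
    (hC : ∀ k, ∀ c ∈ Subgroup.centralizer (U : Set L), j k * σ c = σ c * j k) (m : ℕ)
    (hm : m = @finrank K W _ _ (Module.compHom W j.toRingHom)) :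
    ∃ N, 0 < N ∧ N ≤ m ^ 2 ∧
      U.relIndex (Subgroup.centralizer (U : Set L)) ≤ N ^ (1 + Nat.log 2 N) := by
  classical
  obtain ⟨D, hDn, hUD, hDC, hDc, hCD⟩ := exists_D hsol U hmax hU
  let : Module K W := Module.compHom W j.toRingHom
  have : Module.Finite K W := Module.Finite.of_finite
  have hsmul : ∀ (k : K) (w : W), k • w = j k w := fun _ _ => rfl
  set C := Subgroup.centralizer (U : Set L) with hCdef
  choose ψ0 hψ0 using (fun u : U => hUK u u.2)
  let ψ : U →* K :=
    { toFun := ψ0
      map_one' := by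
        apply hj
        rw [hψ0, map_one]
        exact map_one σ
      map_mul' := by
        intro a b
        apply hj
        rw [hψ0, map_mul, hψ0, hψ0]
        exact map_mul σ _ _ }
  have hψ : ∀ u : U, j (ψ u) = σ u := hψ0
  have hψinj : Function.Injective ψ := by
    intro a b hab
    apply Subtype.ext
    apply hinj
    rw [← hψ, ← hψ, hab]
  -- the group `T`
  let T : Subgroup L := C ⊓ (Subgroup.centralizer (D.map (QuotientGroup.mk' U) : Set (L ⧸ U))).comap
    (QuotientGroup.mk' U)
  have hTmem : ∀ c, c ∈ T ↔ c ∈ C ∧ ∀ y ∈ D, y * c * y⁻¹ * c⁻¹ ∈ U := by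
    intro c
    rw [Subgroup.mem_inf, Subgroup.mem_comap, Subgroup.mem_centralizer_iff]
    refine and_congr_right fun _ => ?_
    constructor
    · intro h y hy
      have h1 := h (QuotientGroup.mk' U y) (Subgroup.mem_map_of_mem _ hy)
      rw [← QuotientGroup.eq_one_iff]
      have h2 : (y : L ⧸ U) * (c : L ⧸ U) = c * y := h1
      rw [QuotientGroup.mk_mul, QuotientGroup.mk_mul, QuotientGroup.mk_mul, QuotientGroup.mk_inv,
        QuotientGroup.mk_inv, h2]
      group
    · rintro h _ ⟨y, hy, rfl⟩
      have h1 := h y hy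
      rw [← QuotientGroup.eq_one_iff, QuotientGroup.mk_mul, QuotientGroup.mk_mul,
        QuotientGroup.mk_mul, QuotientGroup.mk_inv, QuotientGroup.mk_inv, mul_inv_eq_one,
        mul_inv_eq_iff_eq_mul] at h1
      exact h1
  have hUT : U ≤ T := by
    intro u hu
    rw [hTmem]
    refine ⟨hDC (hUD hu), fun y _ => ?_⟩
    exact U.mul_mem (hUn.conj_mem u hu y) (U.inv_mem hu)
  have hDT : D ≤ T := by
    intro d hd
    rw [hTmem]
    refine ⟨hDC hd, fun y hy => ?_⟩
    have h1 := hDc y hy d hd
    rw [← QuotientGroup.eq_one_iff, QuotientGroup.mk_mul, QuotientGroup.mk_mul,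
        QuotientGroup.mk_mul, QuotientGroup.mk_inv, QuotientGroup.mk_inv, h1.eq]
    group
  have hcomU : ∀ y ∈ C, ∀ u ∈ U, y * u = u * y := by
    intro y hy u hu
    exact (Subgroup.mem_centralizer_iff.1 hy u hu).symm
  -- characters
  let χ : T → (D →* K) := fun c =>
    { toFun := fun y => ψ ⟨(y : L) * c * (y : L)⁻¹ * (c : L)⁻¹, ((hTmem c).1 c.2).2 y y.2⟩
      map_one' := by
        rw [← map_one ψ]
        congr 1
        apply Subtype.ext
        simp
      map_mul' := by
        intro y y'
        rw [← map_mul]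
        congr 1
        apply Subtype.ext
        show ((y : L) * y') * c * ((y : L) * y')⁻¹ * (c : L)⁻¹ =
          ((y : L) * c * (y : L)⁻¹ * (c : L)⁻¹) * ((y' : L) * c * (y' : L)⁻¹ * (c : L)⁻¹)
        have h1 : ((y' : L) * c * (y' : L)⁻¹ * (c : L)⁻¹) ∈ U := ((hTmem c).1 c.2).2 y' y'.2
        have h2 : ((y : L) * c * (y : L)⁻¹ * (c : L)⁻¹) ∈ U := ((hTmem c).1 c.2).2 y y.2
        have h3 := hcomU y (hDC y.2) _ h1
        have h4 := hU _ h1 _ h2
        calc ((y : L) * y') * c * ((y : L) * y')⁻¹ * (c : L)⁻¹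
            = ((y : L) * ((y' : L) * c * (y' : L)⁻¹ * (c : L)⁻¹)) * (c * (y : L)⁻¹ * (c : L)⁻¹) := by
              group
          _ = (((y' : L) * c * (y' : L)⁻¹ * (c : L)⁻¹) * y) * (c * (y : L)⁻¹ * (c : L)⁻¹) := by
              rw [h3]
          _ = ((y' : L) * c * (y' : L)⁻¹ * (c : L)⁻¹) * ((y : L) * c * (y : L)⁻¹ * (c : L)⁻¹) := by
              group
          _ = _ := h4 }
  have hχval : ∀ (c : T) (y : D), j (χ c y) = σ ((y : L) * c * (y : L)⁻¹ * (c : L)⁻¹) :=
    fun c y => hψ _
  have hχinj : ∀ c c' : T, (∀ y : D, χ c y = χ c' y) → (c : L)⁻¹ * c' ∈ U := by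
    intro c c' h
    apply hCD
    rw [Subgroup.mem_centralizer_iff]
    intro y hy
    have h1 := hψinj (h ⟨y⁻¹, D.inv_mem hy⟩)
    have h2 : (y⁻¹ : L) * c * (y⁻¹)⁻¹ * (c : L)⁻¹ = (y⁻¹ : L) * c' * (y⁻¹)⁻¹ * (c' : L)⁻¹ :=
      congrArg Subtype.val h1
    have h3 : (c : L) * y * (c : L)⁻¹ = c' * y * (c' : L)⁻¹ := by
      calc (c : L) * y * (c : L)⁻¹ = y * ((y⁻¹ : L) * c * (y⁻¹)⁻¹ * (c : L)⁻¹) := by group
        _ = y * ((y⁻¹ : L) * c' * (y⁻¹)⁻¹ * (c' : L)⁻¹) := by rw [h2]
        _ = _ := by group
    calc y * ((c : L)⁻¹ * c') = (c : L)⁻¹ * ((c : L) * y * (c : L)⁻¹) * c' := by group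
      _ = (c : L)⁻¹ * (c' * y * (c' : L)⁻¹) * c' := by rw [h3]
      _ = (c : L)⁻¹ * c' * y := by group
  set N := U.relIndex D with hN
  have hNcard : Nat.card (D ⧸ U.subgroupOf D) = N := rfl
  have hNpos : 0 < N := Nat.pos_of_ne_zero Subgroup.FiniteIndex.index_ne_zero
  refine ⟨N, hNpos, ?_, ?_⟩
  · -- linear independence
    rw [hm]
    let τ : D →* End K W :=
      { toFun := fun y =>
          { toFun := fun w => σ (y : L) w
            map_add' := fun a b => map_add _ a b
            map_smul' := by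
              intro k w
              show σ (y : L) (j k w) = j k (σ (y : L) w)
              exact (congrArg (fun f : End F W => f w) (hC k y (hDC y.2))).symm }
        map_one' := by
          apply LinearMap.ext
          intro w
          show σ ((1 : D) : L) w = w
          rw [OneMemClass.coe_one, map_one]
          rfl
        map_mul' := by
          intro y y'
          apply LinearMap.ext
          intro w
          show σ ((y * y' : D) : L) w = σ (y : L) (σ (y' : L) w)
          rw [MulMemClass.coe_mul, map_mul]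
          rfl }
    have : Fintype (D ⧸ U.subgroupOf D) := Fintype.ofFinite _
    have hdim := dim_bound (K := K) (W := W) τ (fun i : D ⧸ U.subgroupOf D => i.out)
      (fun i => χ ⟨(i.out : D), hDT i.out.2⟩) ?_ ?_
    · rw [← hNcard, Nat.card_eq_fintype_card]
      exact hdim
    · intro i i' hii
      have h1 := hχinj ⟨(i.out : D), hDT i.out.2⟩ ⟨(i'.out : D), hDT i'.out.2⟩ (fun y =>
        congrArg (fun f : D →* K => f y) hii)
      have h2 : i.out⁻¹ * i'.out ∈ U.subgroupOf D := h1
      rw [← QuotientGroup.eq] at h2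
      simpa using h2
    · intro i y
      apply LinearMap.ext
      intro w
      show σ ((y * i.out * y⁻¹ : D) : L) w = j (χ ⟨(i.out : D), hDT i.out.2⟩ y) (σ (i.out : L) w)
      rw [hχval, ← Module.End.mul_apply, ← map_mul]
      congr 2
      simp
  · -- counting
    have hUTi : U.relIndex T ≤ N := by
      obtain ⟨hf, hle⟩ := card_monoidHom_le (D ⧸ U.subgroupOf D) K
      have hlift : ∀ c : T, ∀ x ∈ U.subgroupOf D, χ c x = 1 := by
        intro c x hx
        apply hj
        rw [hχval, map_one]
        have hxU : (x : L) ∈ U := hx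
        have h1 := hcomU c ((hTmem c).1 c.2).1 x hxU
        have h2 : (x : L) * c * (x : L)⁻¹ * (c : L)⁻¹ = 1 := by rw [← h1]; group
        rw [h2, map_one]
      refine le_trans (relIndex_le_of_map U T (fun c => QuotientGroup.lift (U.subgroupOf D) (χ c)
        (hlift c)) ?_) (by rw [hNcard] at hle; exact hle)
      intro c c' h
      apply hχinj
      intro y
      exact congrArg (fun f : D ⧸ U.subgroupOf D →* K => f (QuotientGroup.mk y)) h
    -- the action on `D / U`
    obtain ⟨G0, hG0, hG0c⟩ := exists_gens (X := D ⧸ U.subgroupOf D)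
    let γ : C → (D →* D ⧸ U.subgroupOf D) := fun c =>
      { toFun := fun y => QuotientGroup.mk (⟨(c : L) * y * (c : L)⁻¹, hDn.conj_mem y y.2 c⟩ : D)
        map_one' := by
          rw [QuotientGroup.eq_one_iff]
          show (c : L) * 1 * (c : L)⁻¹ ∈ U
          rw [mul_one, mul_inv_cancel]
          exact U.one_mem
        map_mul' := by
          intro y y'
          rw [← QuotientGroup.mk_mul]
          congr 1
          apply Subtype.ext
          show (c : L) * (y * y') * (c : L)⁻¹ = (c : L) * y * (c : L)⁻¹ * ((c : L) * y' * (c : L)⁻¹)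
          group }
    have hγU : ∀ c : C, ∀ x ∈ U.subgroupOf D, γ c x = 1 := by
      intro c x hx
      show QuotientGroup.mk (⟨(c : L) * x * (c : L)⁻¹, hDn.conj_mem x x.2 c⟩ : D) = _
      rw [QuotientGroup.eq_one_iff]
      exact hUn.conj_mem x hx c
    let γ' : C → (D ⧸ U.subgroupOf D →* D ⧸ U.subgroupOf D) := fun c =>
      QuotientGroup.lift (U.subgroupOf D) (γ c) (hγU c)
    have hTC : T.relIndex C ≤ N ^ Nat.log 2 N := by
      refine le_trans (relIndex_le_of_map T C (fun c (g : G0) => γ' c g) ?_) ?_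
      · intro c c' h
        have h1 : γ' c = γ' c' := by
          apply MonoidHom.eq_of_eqOn_dense hG0
          intro g hg
          exact congrFun h ⟨g, hg⟩
        rw [hTmem]
        refine ⟨C.mul_mem (C.inv_mem c.2) c'.2, fun y hy => ?_⟩
        have h2 : γ c ⟨y⁻¹, D.inv_mem hy⟩ = γ c' ⟨y⁻¹, D.inv_mem hy⟩ :=
          congrArg (fun f : D ⧸ U.subgroupOf D →* D ⧸ U.subgroupOf D =>
            f (QuotientGroup.mk ⟨y⁻¹, D.inv_mem hy⟩)) h1
        have h3' : (⟨(c : L) * y⁻¹ * (c : L)⁻¹, hDn.conj_mem _ (D.inv_mem hy) c⟩ : D)⁻¹ *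
            (⟨(c' : L) * y⁻¹ * (c' : L)⁻¹, hDn.conj_mem _ (D.inv_mem hy) c'⟩ : D) ∈
              U.subgroupOf D := QuotientGroup.eq.1 h2
        have h3 : ((c : L) * y⁻¹ * (c : L)⁻¹)⁻¹ * ((c' : L) * y⁻¹ * (c' : L)⁻¹) ∈ U := h3'
        have h4 := hUn.conj_mem _ h3 (c : L)⁻¹
        convert h4 using 1
        group
      · have : Fintype (D ⧸ U.subgroupOf D) := Fintype.ofFinite _
        rw [Nat.card_fun, hNcard, Nat.card_eq_fintype_card, Fintype.card_coe]
        apply Nat.pow_le_pow_right hNpos
        rw [hNcard] at hG0c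
        exact (Nat.le_log_iff_pow_le (by norm_num) hNpos.ne').2 hG0c
    have hTle : T ≤ C := inf_le_left
    rw [← Subgroup.relIndex_mul_relIndex U T C hUT hTle, pow_add, pow_one]
    exact Nat.mul_le_mul hUTi hTC

end Cfsg.Agent.H674.KM
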