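import Cfsg.Agent.H674.KM.Struct

/-!
# The structure of a solvable quasi-primitive linear group
-/

set_option autoImplicit false

namespace Cfsg.Agent.H674.KM

open Module

universe u v w

/-- the data extracted from a quasi-primitive solvable linear group -/
structure Dat (qF cW : ℕ) {L : Type v} [Group L] (Z U C : Subgroup L) (N d0 δ m : ℕ) : Prop where
  hZU : Z ≤ U
  hUC : U ≤ C
  hUn : U.Normal
  hCn : C.Normal
  comm : ∀ u ∈ U, ∀ c ∈ C, u * c = c * u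
  hN : 0 < N
  hd0 : 0 < d0
  hδ : 0 < δ
  hm : 0 < m
  card : cW = qF ^ (d0 * δ * m)
  dvd : Nat.card Z ∣ qF ^ d0 - 1
  idx0 : (Subgroup.centralizer (Z : Set L)).index ≤ d0
  idx1 : C.relIndex (Subgroup.centralizer (Z : Set L)) ≤ δ
  idx2 : U.relIndex C ≤ N ^ (1 + Nat.log 2 N)
  hNm : N ≤ m ^ 2

theorem structure_L {F : Type u} [Field F] [Finite F] {L : Type v} [Group L] [Finite L]
    (hsol : Group.IsSolvable L) {W : Type w} [AddCommGroup W] [Module F W] [Finite W]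
    [Nontrivial W] (σ : Representation F L W) (hinj : Function.Injective σ) (hqp : QP σ)
    (Z : Subgroup L) (hZn : Z.Normal) (hZ : ∀ a ∈ Z, ∀ b ∈ Z, a * b = b * a) :
    ∃ (U C : Subgroup L) (N d0 δ m : ℕ), Dat (Nat.card F) (Nat.card W) Z U C N d0 δ m := by
  let P : Subgroup L → Prop := fun B => B.Normal ∧ (∀ a ∈ B, ∀ b ∈ B, a * b = b * a) ∧ Z ≤ B
  obtain ⟨U, hUmax⟩ := (Set.toFinite {B : Subgroup L | P B}).exists_maximal ⟨Z, hZn, hZ, le_rfl⟩
  obtain ⟨hUn, hU, hZU⟩ : P U := hUmax.prop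
  have hmax : ∀ B : Subgroup L, B.Normal → (∀ a ∈ B, ∀ b ∈ B, a * b = b * a) → U ≤ B → B ≤ U := by
    intro B hB hBc hle
    exact hUmax.2 (⟨hB, hBc, le_trans hZU hle⟩ : P B) hle
  obtain ⟨K, _, _, _, j, d0, δ, m, hj, hUK, hC, hd0, hδ, hm, hcard, hdvd, h0, h1, hmeq⟩ :=
    field_part σ hinj hqp Z U hUn hZU hU
  obtain ⟨N, hN, hNm, hUC⟩ := struct_part hsol σ hinj U hUn hU hmax j hj hUK hC m hmeq
  refine ⟨U, Subgroup.centralizer (U : Set L), N, d0, δ, m, hZU, ?_, hUn,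
    Subgroup.normal_centralizer, ?_, hN, hd0, hδ, hm, hcard, hdvd, h0, h1, hUC, hNm⟩
  · intro u hu
    rw [Subgroup.mem_centralizer_iff]
    intro v hv
    exact hU v hv u hu
  · intro u hu c hc
    exact Subgroup.mem_centralizer_iff.1 hc u hu

end Cfsg.Agent.H674.KM
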